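import Cfsg.Agent.BenderWorld.TwoTransitive
import Cfsg.Agent.BenderWorld.Shape.WorldFacts

/-!
# The centralizer at `a` of an element of `D` with a power in a local with a four group

`local_power`: let `g` be a power of `x ∈ G_ab` centralised by a four group at `a` and by an
involution at each point it fixes.  Then two-elements of `C_H(x)` are transitive on the points other
than `a` fixed by `x`, and the number of these is a power of two.
-/

set_option autoImplicit false
set_option linter.style.haveILetI false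

namespace CfsgLib.BenderWorld

open CfsgLib.Small CfsgLib.SEmbed Subgroup

variable {G : Type*} [Group G] [Finite G] {Ω : Type*} [MulAction G Ω]

theorem Clean.local_power (h : Clean G Ω) {a b : Ω} (hab : a ≠ b) {x : G}
    (hx : x ∈ pairStab G a b) {g : G} (hg1 : g ≠ 1) (hgx : g ∈ zpowers x) {V : Subgroup G}
    (hV : IsFour V) (hVa : ∀ r ∈ V, r • a = a) (hVg : ∀ r ∈ V, Commute r g)
    (hinv : ∀ c : Ω, g • c = c → ∃ v ∈ invMap (G := G) c c, Commute v g) :
    (∀ c, c ≠ a → x • c = c →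
      ∃ s : G, (∃ i : ℕ, s ^ 2 ^ i = 1) ∧ s • a = a ∧ s • b = c ∧ Commute s x) ∧
    ∃ k : ℕ, Nat.card {c : Ω // c ≠ a ∧ x • c = c} = 2 ^ k := by
  have hu := h.world.uf
  obtain ⟨hxa, hxb⟩ := mem_pairStab.1 hx
  have hgfix : ∀ c : Ω, x • c = c → g • c = c := fun c hc =>
    (MulAction.mem_stabilizer_iff).1 ((zpowers_le.2 (show x ∈ MulAction.stabilizer G c from hc)) hgx)
  set M := centralizer ({g} : Set G) with hM
  have hmemM : ∀ v : G, Commute v g → v ∈ M := fun v hv => mem_centralizer_singleton_iff.2 hv.eq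
  have hxM : x ∈ M := hmemM x (by
    obtain ⟨n, rfl⟩ := mem_zpowers_iff.1 hgx
    exact (Commute.refl x).zpow_right n)
  obtain ⟨t, htV, ht2⟩ := hV.exists_invol
  have ht : t ∈ invMap (G := G) a a := ⟨ht2, hVa t htV⟩
  have htM : t ∈ M := hmemM t (hVg t htV)
  have hVM : V ≤ M := fun r hr => hmemM r (hVg r hr)
  have hMtop : M ≠ ⊤ := fun htop => by
    haveI := h.world.simple
    haveI : (zpowers g).Normal := ⟨fun y hy k => by
      obtain ⟨n, rfl⟩ := mem_zpowers_iff.1 hy
      have h1 : Commute k g := mem_centralizer_singleton_iff.1 (show k ∈ M from htop ▸ mem_top k)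
      rw [(h1.zpow_right n).eq, mul_inv_cancel_right]
      exact ⟨n, rfl⟩⟩
    rcases IsSimpleGroup.eq_bot_or_eq_top_of_normal (zpowers g) inferInstance with h0 | h0
    · exact hg1 (zpowers_eq_bot.1 h0)
    · have hgD : g ∈ pairStab G a b := mem_pairStab.2 ⟨hgfix a hxa, hgfix b hxb⟩
      have h2 := Subgroup.orderOf_dvd_natCard _
        ((zpowers_le.2 hgD) (show t ∈ zpowers g from h0 ▸ mem_top t))
      rw [ht2] at h2
      exact (odd_pairStab hu hab).not_two_dvd_nat h2
  -- in a subgroup `L` with `t`: an involution at another point gives an element moving `a` there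
  have hmove : ∀ L : Subgroup G, t ∈ L → ∀ p : Ω, a ≠ p → ∀ s ∈ invMap (G := G) p p, s ∈ L →
      ∃ m ∈ L, m • a = p := by
    intro L htL p hap s hs hsL
    obtain ⟨m, hm, hms⟩ := exists_conj_in hu htL hsL ht.1 hs.1 ht.2 hs.2 hap
    exact ⟨m, hm, hu.unique s hs.1 _ _ (by rw [← hms, mul_smul, mul_smul, inv_smul_smul, ht.2]) hs.2⟩
  have hR1 : ∀ L : Subgroup G, V ≤ L → ∀ m ∈ L, m • a ≠ a → ¬ IsR1 L := by
    intro L hVL m hm hma h1
    obtain ⟨o, ho, c, -, hc, hmoc⟩ := h1 t (hVL htV) ht.1 m hm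
    have hO : coreIn L ≤ MulAction.stabilizer G a := by
      refine le_stabilizer_of_normal_odd hu (N := coreIn L) ?_ ?_ hV hVa hVL
      · intro y hy
        exact le_normalizer_map L.subtype ⟨⟨y, hy⟩, by rw [normalizer_eq_top]; exact mem_top _, rfl⟩
      · rw [coreIn, card_map_of_injective L.subtype_injective]
        exact CfsgLib.TwoGroups.odd_card_oddCore
    refine hma ?_
    rw [hmoc, mul_smul, commute_fix hu ht.1 hc ht.2]
    exact hO ho
  obtain ⟨v, hv, hvg⟩ := hinv b (hgfix b hxb)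
  obtain ⟨m, hm, hma⟩ := hmove M htM b hab v hv (hmemM v hvg)
  have hmov : m • a ≠ a := fun e => hab (e.symm.trans hma)
  have hM2 : IsR2 M a := (h.world.ih M hMtop a ⟨t, htM, ht.1, ht.2⟩ ⟨m, hm, hmov⟩).resolve_left
    (hR1 M hVM m hm hmov)
  set O := coreIn M with hO
  have hOnorm : ∀ k ∈ M, ∀ o ∈ O, k * o * k⁻¹ ∈ O := by
    rintro k hk _ ⟨o, ho, rfl⟩
    exact ⟨⟨k, hk⟩ * o * ⟨k, hk⟩⁻¹, (inferInstance : (Cfsg.oddCore M).Normal).conj_mem o ho _, rfl⟩
  -- the involutions of `M` at the points fixed by `g` centralise `O`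
  have hOcomm : ∀ p : Ω, ∀ s ∈ invMap (G := G) p p, s ∈ M → ∀ o ∈ O, Commute o s := by
    intro p s hs hsM o ho
    by_cases hpa : a = p
    · exact h.core M hMtop a hM2 s hsM (hpa ▸ hs) o ho
    · obtain ⟨k, hk, hks⟩ := exists_conj_in hu htM hsM ht.1 hs.1 ht.2 hs.2 hpa
      have h1 := h.core M hMtop a hM2 t htM ht _ (hOnorm k⁻¹ (inv_mem hk) o ho)
      rw [inv_inv] at h1
      show o * s = s * o
      rw [← hks]
      calc o * (k * t * k⁻¹) = k * ((k⁻¹ * o * k) * t) * k⁻¹ := by group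
        _ = _ := by rw [h1.eq]; group
  -- so they lie in a local with a transitive two-closed subgroup
  set C := M ⊓ centralizer (O : Set G) with hC
  have hinC : ∀ p : Ω, ∀ s ∈ invMap (G := G) p p, s ∈ M → s ∈ C := fun p s hs hsM =>
    ⟨hsM, mem_centralizer_iff.2 fun o ho => (hOcomm p s hs hsM o ho).eq⟩
  have hVC : V ≤ C := fun r hr => by
    by_cases hr1 : r = 1
    · rw [hr1]; exact one_mem _
    · exact hinC a r ⟨hV.orderOf_eq_two hr hr1, hVa r hr⟩ (hVM hr)
  have htC : t ∈ C := hinC a t ht htM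
  have hCtop : C ≠ ⊤ := fun e => hMtop (top_le_iff.1 (e.ge.trans inf_le_left))
  obtain ⟨m₁, hm₁, hm₁a⟩ := hmove C htC b hab v hv (hinC b v hv (hmemM v hvg))
  have hmov₁ : m₁ • a ≠ a := fun e => hab (e.symm.trans hm₁a)
  have hC2 : IsR2 C a := (h.world.ih C hCtop a ⟨t, htC, ht.1, ht.2⟩ ⟨m₁, hm₁, hmov₁⟩).resolve_left
    (hR1 C hVC m₁ hm₁ hmov₁)
  obtain ⟨U', hOU', hU'C, -, hU'2, -, hU'tr, -⟩ := hC2.twoClosed
  obtain ⟨U, hOU, hUM, hUn, hU2, hUc, -, -⟩ := hM2.twoClosed
  have hOb : ∀ o ∈ O, o • b = b := fun o ho => by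
    rw [← hma]; exact hM2.core_fix o ho m hm
  have hCb : ∀ o ∈ coreIn C, o • b = b := fun o ho => by
    rw [← hm₁a]; exact hC2.core_fix o ho m₁ hm₁
  have hCM : coreIn C ≤ O := by
    haveI : (C.subgroupOf M).Normal := by
      refine (normal_subgroupOf_iff_le_normalizer inf_le_left).2 fun k hk => ?_
      refine inf_normalizer_le_normalizer_inf ⟨le_normalizer hk, ?_⟩
      have h1 : k ∈ normalizer (O : Set G) :=
        le_normalizer_map M.subtype ⟨⟨k, hk⟩, by rw [normalizer_eq_top]; exact mem_top _, rfl⟩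
      exact (normal_subgroupOf_iff_le_normalizer (centralizer_le_normalizer _)).1
        (normal_subgroupOf_centralizer_normalizer (O : Set G)) h1
    -- the odd core of a normal subgroup lies in the odd core
    have hle : ((Cfsg.oddCore C).map (C.subtype)).subgroupOf M ≤ Cfsg.oddCore M := by
      haveI : (((Cfsg.oddCore C).map C.subtype).subgroupOf M).Normal := by
        refine (normal_subgroupOf_iff_le_normalizer ((map_subtype_le _).trans inf_le_left)).2 fun k hk => ?_
        have hkC : k ∈ normalizer (C : Set G) :=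
          (normal_subgroupOf_iff_le_normalizer inf_le_left).1 inferInstance hk
        refine CfsgLib.LocalStructure.mem_normalizer_of_forall ?_
        rintro _ ⟨o, ho, rfl⟩
        let φ : C ≃* C :=
          { toFun := fun y => ⟨k * y * k⁻¹, (mem_normalizer_iff.1 hkC y).1 y.2⟩
            invFun := fun y => ⟨k⁻¹ * y * k, (mem_normalizer_iff''.1 hkC y).1 y.2⟩
            left_inv := fun y => by ext; simp [mul_assoc]
            right_inv := fun y => by ext; simp [mul_assoc]
            map_mul' := fun y z => by ext; simp [mul_assoc] }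
        refine ⟨φ o, ?_, rfl⟩
        exact (CfsgLib.PLocal.map_pPrimeCore_equiv (p := 2) φ).le ⟨o, ho, rfl⟩
      refine CfsgLib.PLocal.le_pPrimeCore ?_
      rw [Nat.card_congr (subgroupOfEquivOfLe ((map_subtype_le _).trans inf_le_left)).toEquiv,
        card_map_of_injective C.subtype_injective]
      exact Nat.coprime_two_right.2 CfsgLib.TwoGroups.odd_card_oddCore
    intro o ho
    exact ⟨⟨o, (map_subtype_le _ ho : o ∈ C).1⟩, hle ho, rfl⟩
  -- a two-element of `U'` centralising `x` between two points fixed by `x`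
  have key : ∀ c, c ≠ a → x • c = c →
      ∃ s ∈ U', (∃ i : ℕ, s ^ 2 ^ i = 1) ∧ s • b = c ∧ Commute s x := by
    intro c hca hxc
    by_cases hbc : b = c
    · exact ⟨1, one_mem _, ⟨0, one_pow _⟩, by rw [one_smul, hbc], Commute.one_left x⟩
    obtain ⟨v', hv', hv'g⟩ := hinv c (hgfix c hxc)
    obtain ⟨m₂, hm₂, hm₂a⟩ := hmove C htC c hca.symm v' hv' (hinC c v' hv' (hmemM v' hv'g))
    obtain ⟨u, huU', hub⟩ := hU'tr b ⟨⟨m₁, hm₁⟩, hm₁a⟩ c ⟨⟨m₂, hm₂⟩, hm₂a⟩ hab.symm hca
    have hua : u • a = a := (hU'C huU').2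
    have huM : u ∈ M := (hU'C huU').1.1
    have huO : ∀ o ∈ O, o * u = u * o := mem_centralizer_iff.1 (hU'C huU').1.2
    obtain ⟨n, hn⟩ := hU'2 u huU'
    have huU : u ∈ U := hUc u ⟨huM, hua⟩ n (hCM hn)
    -- the two-part of `u`
    obtain ⟨i, r, hr, hir⟩ :=
      Nat.exists_eq_pow_mul_and_not_dvd (orderOf_pos u).ne' 2 (by norm_num)
    obtain ⟨j, hj⟩ : ∃ j : ℕ, r * j ≡ 1 [MOD 2 ^ n] := by
      have hcop : r.Coprime (2 ^ n) :=
        (((Nat.Prime.coprime_iff_not_dvd Nat.prime_two).2 hr).symm).pow_right n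
      obtain ⟨y, hy0, hy1⟩ := Nat.chineseRemainder hcop 0 1
      obtain ⟨j, rfl⟩ := Nat.modEq_zero_iff_dvd.1 hy0
      exact ⟨j, hy1⟩
    set s := u ^ (r * j) with hs
    have hs2 : s ^ 2 ^ i = 1 := by
      rw [hs, ← pow_mul, show r * j * 2 ^ i = orderOf u * j by rw [hir]; ring, pow_mul,
        pow_orderOf_eq_one, one_pow]
    have hfixn : ∀ k : ℕ, u ^ (2 ^ n * k) • b = b := fun k => by
      rw [pow_mul]; exact hOb _ (pow_mem (hCM hn) k)
    have hsb : s • b = c := by
      rw [hs, ← Nat.mod_add_div (r * j) (2 ^ n), pow_add, mul_smul, hfixn]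
      rcases Nat.eq_zero_or_pos n with hn0 | hn0
      · -- then `u` lies in the core
        subst hn0
        have h1 : u • b = b := by simpa using hfixn 1
        exact absurd (h1.symm.trans hub) hbc
      · rw [show r * j % 2 ^ n = 1 % 2 ^ n from hj, Nat.one_mod_eq_one.2 (by
          have := Nat.one_lt_pow hn0.ne' (show 1 < 2 by norm_num); omega), pow_one, hub]
    have hsa : s • a = a :=
      (MulAction.mem_stabilizer_iff).1 (pow_mem (show u ∈ MulAction.stabilizer G a from hua) _)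
    refine ⟨s, pow_mem huU' _, ⟨i, hs2⟩, hsb, ?_⟩
    have hsU : s ∈ U := pow_mem huU _
    have hsO : ∀ o ∈ O, Commute s o := fun o ho => (show Commute u o from (huO o ho).symm).pow_left _
    -- `x s x⁻¹ = s o` with `o` in the core
    set o := s⁻¹ * (x * s * x⁻¹) with ho
    have hoU : o ∈ U := mul_mem (inv_mem hsU) (hUn x ⟨hxM, hxa⟩ s hsU)
    have hoD : o ∈ pairStab G a b := mem_pairStab.2 ⟨by
      rw [ho, mul_smul, mul_smul, mul_smul, inv_smul_eq_iff.2 hxa.symm, hsa, hxa, inv_smul_eq_iff, hsa], by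
      rw [ho, mul_smul, mul_smul, mul_smul, inv_smul_eq_iff.2 hxb.symm, hsb, hxc, inv_smul_eq_iff, hsb]⟩
    have hoO : o ∈ O := by
      obtain ⟨k, hk⟩ := hU2 o hoU
      obtain ⟨l, hl⟩ := exists_pow_eq_self_of_coprime (x := o) (n := 2 ^ k)
        ((Nat.coprime_two_left.2 (Odd.of_dvd_nat (odd_pairStab hu hab)
          (Subgroup.orderOf_dvd_natCard _ hoD))).pow_left _)
      exact hl ▸ pow_mem hk l
    have ho1 : o = 1 := by
      have h1 : (s * o) ^ 2 ^ i = 1 := by
        rw [ho, mul_inv_cancel_left, conj_pow, hs2]; simp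
      rw [(hsO o hoO).mul_pow, hs2, one_mul] at h1
      exact orderOf_eq_one_iff.1 (Nat.eq_one_of_dvd_coprimes
        ((Nat.coprime_two_left.2 (odd_pairStab hu hab)).pow_left i) (orderOf_dvd_of_pow_eq_one h1)
        (Subgroup.orderOf_dvd_natCard _ hoD))
    have h2 : s = x * s * x⁻¹ := inv_mul_eq_one.1 (ho ▸ ho1)
    show s * x = x * s
    calc s * x = x * s * x⁻¹ * x := by rw [← h2]
      _ = x * s := by group
  refine ⟨fun c hc hxc => ?_, ?_⟩
  · obtain ⟨s, hsU', hs2, hsb, hsx⟩ := key c hc hxc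
    exact ⟨s, hs2, (hU'C hsU').2, hsb, hsx⟩
  -- the other fixed points are an orbit of `K = C_U'(x)`, a two-group modulo the core
  set K := U' ⊓ centralizer ({x} : Set G) with hK
  have horb : MulAction.orbit K b = {c : Ω | c ≠ a ∧ x • c = c} := by
    ext c
    constructor
    · rintro ⟨⟨s, hsU', hsx⟩, rfl⟩
      have hsa : s • a = a := (hU'C hsU').2
      refine ⟨fun e => hab (smul_left_cancel s (hsa.trans e.symm)), ?_⟩
      show x • (s • b) = s • b
      rw [smul_smul, ← mem_centralizer_singleton_iff.1 hsx, mul_smul, hxb]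
    · rintro ⟨hca, hxc⟩
      obtain ⟨s, hsU', -, hsb, hsx⟩ := key c hca hxc
      exact ⟨⟨s, hsU', mem_centralizer_singleton_iff.2 hsx.eq⟩, hsb⟩
  set N := (coreIn C).subgroupOf K with hN
  haveI : N.Normal := ⟨fun o ho k => by
    have hkC : (k : G) ∈ C := (hU'C k.2.1).1
    obtain ⟨o', ho', he⟩ := (show (o : G) ∈ coreIn C from ho)
    exact ⟨⟨k, hkC⟩ * o' * ⟨k, hkC⟩⁻¹,
      (inferInstance : (Cfsg.oddCore C).Normal).conj_mem o' ho' _, by simp [← he]⟩⟩
  haveI : Fact (Nat.Prime 2) := ⟨Nat.prime_two⟩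
  have hq : IsPGroup 2 (K ⧸ N) := fun y => by
    obtain ⟨k, rfl⟩ := QuotientGroup.mk'_surjective N y
    obtain ⟨n, hn⟩ := hU'2 k k.2.1
    exact ⟨n, by rw [← map_pow, QuotientGroup.mk'_apply, QuotientGroup.eq_one_iff]; exact hn⟩
  obtain ⟨j, hj⟩ := IsPGroup.iff_card.1 hq
  have hdvd : (MulAction.stabilizer K b).index ∣ 2 ^ j :=
    hj ▸ Subgroup.index_dvd_of_le (fun k hk => hCb k hk)
  obtain ⟨i, -, hi⟩ := (Nat.dvd_prime_pow Nat.prime_two).1 hdvd
  refine ⟨i, ?_⟩
  rw [← hi, MulAction.index_stabilizer, horb, ← Nat.card_coe_set_eq]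
  rfl

end CfsgLib.BenderWorld
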