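import Cfsg.Agent.BenderWorld.Finish
import Cfsg.Agent.BenderWorld.Finish.Power

/-!
# The good case: every element of prime order of `D` is centralised by two involutions at `a`

Then `D` is a Hall subgroup of `H`, controls its fusion and the centralizers of its elements are
transitive on their other fixed points: a regular normal subgroup exists.
-/

set_option autoImplicit false
set_option linter.style.haveILetI false

namespace CfsgLib.BenderWorld

open CfsgLib.Small CfsgLib.SEmbed Subgroup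

variable {G : Type*} [Group G] [Finite G] {Ω : Type*} [MulAction G Ω]

theorem Clean.one_lt_numInv (h : Clean G Ω) (a : Ω) : 1 < numInv G a := by
  have hu := h.world.uf
  obtain ⟨V, hV⟩ := h.world.four
  obtain ⟨c, hc⟩ := hV.exists_point hu
  obtain ⟨v, hv, hvo⟩ := hV.exists_invol
  obtain ⟨r, hr, hr1, hrv⟩ : ∃ r ∈ V, r ≠ 1 ∧ r ≠ v := by
    by_contra hcon
    push Not at hcon
    have hle : (V : Set G) ⊆ {1, v} := fun r hr => by
      by_cases h1 : r = 1
      · exact Or.inl h1
      · exact Or.inr (hcon r hr h1)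
    have h1 := Set.ncard_le_ncard hle (Set.toFinite _)
    rw [← Nat.card_coe_set_eq] at h1
    have h4 : Nat.card (V : Set G) = 4 := hV.1
    have h2 := (Set.ncard_insert_le (1 : G) {v}).trans_eq (by rw [Set.ncard_singleton])
    omega
  unfold numInv
  rw [card_invMap_self hu a c]
  haveI : Nontrivial (invMap (G := G) c c) :=
    ⟨⟨⟨r, hV.orderOf_eq_two hr hr1, hc hr⟩, ⟨v, hvo, hc hv⟩, fun e => hrv (congrArg Subtype.val e)⟩⟩
  exact Finite.one_lt_card

theorem Clean.exists_prime (h : Clean G Ω) (a : Ω) : ∃ q : ℕ, q.Prime ∧ q ∣ numInv G a :=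
  Nat.exists_prime_and_dvd (h.one_lt_numInv a).ne'

theorem Clean.two_transitive (h : Clean G Ω) {a b c d : Ω} (hab : a ≠ b) (hcd : c ≠ d) :
    ∃ g : G, g • a = c ∧ g • b = d := by
  obtain ⟨q, hq, hdvd⟩ := h.exists_prime a
  haveI := Fact.mk hq
  exact (h.good hdvd).two_transitive hab hcd

theorem Clean.exists_move (h : Clean G Ω) {a b : Ω} (hab : a ≠ b) (x : Ω) (hx : x ≠ a) :
    ∃ g ∈ MulAction.stabilizer G a, g • b = x :=
  (h.two_transitive hab hx.symm).imp fun _ hg => ⟨hg.1, hg.2⟩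

/-- An element of prime order prime to `m` centralises an involution at each point it fixes. -/
theorem exists_commute_invol (hu : UniqueFix G Ω) {g : G} (hg : (orderOf g).Prime) {a c : Ω}
    (hm : ¬ orderOf g ∣ numInv G a) (hc : g • c = c) :
    ∃ v ∈ invMap (G := G) c c, Commute v g := by
  haveI := Fact.mk hg
  have hP : IsPGroup (orderOf g) (zpowers g) :=
    IsPGroup.of_card (n := 1) (by rw [Nat.card_zpowers, pow_one])
  have hle : zpowers g ≤ MulAction.stabilizer G c := zpowers_le.2 hc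
  letI : MulAction (zpowers g) (invMap (G := G) c c) :=
    { smul := fun k i => ⟨(k : G) * i * (k : G)⁻¹, conj_mem_invMap (hle k.2) i.2⟩
      one_smul := fun i => Subtype.ext (show (1 : G) * i * (1 : G)⁻¹ = i by group)
      mul_smul := fun k l i => Subtype.ext (by
        show ((k : G) * l) * i * ((k : G) * l)⁻¹ = k * (l * i * (l : G)⁻¹) * (k : G)⁻¹
        group) }
  obtain ⟨i, hi⟩ := hP.nonempty_fixed_point_of_prime_not_dvd_card (invMap (G := G) c c)
    (by rwa [card_invMap_self hu c a])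
  refine ⟨i, i.2, ?_⟩
  have h1 : g * (i : G) * g⁻¹ = i := congrArg Subtype.val (hi ⟨g, mem_zpowers g⟩)
  exact (show Commute g i from mul_inv_eq_iff_eq_mul.1 h1).symm

/-- The hypothesis of the good case. -/
def NoBad (G : Type*) [Group G] {Ω : Type*} [MulAction G Ω] (a b : Ω) : Prop :=
  ∀ g ∈ pairStab G a b, (orderOf g).Prime → ¬ orderOf g ∣ numInv G a →
    ∃ s ∈ invMap (G := G) a a, ∃ t ∈ invMap (G := G) a a,
      s ≠ t ∧ Commute s t ∧ Commute s g ∧ Commute t g

/-- `local_power` in the good case. -/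
theorem Clean.local_power_of_noBad (h : Clean G Ω) {a b : Ω} (hab : a ≠ b) (hgood : NoBad G a b)
    {x : G} (hx : x ∈ pairStab G a b) {g : G} (hg : (orderOf g).Prime) (hgx : g ∈ zpowers x)
    (hthree : orderOf g ∣ numInv G a → ∃ c, c ≠ a ∧ c ≠ b ∧ g • c = c) :
    (∀ c, c ≠ a → x • c = c →
      ∃ s : G, (∃ i : ℕ, s ^ 2 ^ i = 1) ∧ s • a = a ∧ s • b = c ∧ Commute s x) ∧
    ∃ k : ℕ, Nat.card {c : Ω // c ≠ a ∧ x • c = c} = 2 ^ k := by
  have hu := h.world.uf
  have hg1 : g ≠ 1 := fun e => by rw [e, orderOf_one] at hg; exact Nat.not_prime_one hg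
  have hgD : g ∈ pairStab G a b := zpowers_le.2 hx hgx
  obtain ⟨hga, hgb⟩ := mem_pairStab.1 hgD
  haveI := Fact.mk hg
  by_cases hm : orderOf g ∣ numInv G a
  · obtain ⟨c₀, hc₀a, hc₀b, hc₀⟩ := hthree hm
    have hG := h.good hm
    have hQ : IsPGroup (orderOf g) (zpowers g) :=
      IsPGroup.of_card (n := 1) (by rw [Nat.card_zpowers, pow_one])
    have hne : zpowers g ≠ ⊥ := zpowers_ne_bot.2 hg1
    have hfix : ∀ c : Ω, g • c = c → c ∈ fixSet (Ω := Ω) (zpowers g) := fun c hc r hr =>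
      (MulAction.mem_stabilizer_iff).1 (zpowers_le.2 (show g ∈ MulAction.stabilizer G c from hc) hr)
    have hinv : ∀ c : Ω, g • c = c → ∃ v ∈ invMap (G := G) c c, Commute v g := fun c hc => by
      obtain ⟨v, hv, hvg⟩ := hG.exists_invol_at hQ hne (hfix a hga) (hfix b hgb) (hfix c₀ hc₀) hab
        hc₀a.symm hc₀b.symm (hfix c hc)
      exact ⟨v, hv, (hvg g (mem_zpowers g)).symm⟩
    obtain ⟨t, ht, htg⟩ := hinv a hga
    obtain ⟨⟨V, hV, hVa, hVg⟩, -⟩ := hG.centralised ht hQ
      (zpowers_le.2 (mem_centralizer_singleton_iff.2 htg.symm.eq)) hne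
    exact h.local_power hab hx hg1 hgx hV hVa
      (fun r hr => ((mem_centralizer_iff.1 (hVg hr)) g (mem_zpowers g)).symm) hinv
  · obtain ⟨s, hs, t, ht, hst, hc, hsg, htg⟩ := hgood g hgD hg hm
    refine h.local_power hab hx hg1 hgx (isFour_closure_pair hs.1 ht.1 hst hc) ?_ ?_
      (fun c hc => exists_commute_invol hu hg hm hc)
    · intro r hr
      refine (MulAction.mem_stabilizer_iff).1 (((closure_le _).2 ?_) hr)
      rintro r (rfl | rfl)
      exacts [hs.2, ht.2]
    · intro r hr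
      refine mem_centralizer_singleton_iff.1 (((closure_le (centralizer ({g} : Set G))).2 ?_) hr)
      rintro r (rfl | rfl)
      exacts [mem_centralizer_singleton_iff.2 hsg.eq, mem_centralizer_singleton_iff.2 htg.eq]

/-- **The good case**: a regular normal subgroup. -/
theorem Clean.exists_regular_of_noBad (h : Clean G Ω) {a b : Ω} (hab : a ≠ b)
    (hgood : NoBad G a b) :
    ∃ Q : Subgroup G, Q ≤ MulAction.stabilizer G a ∧
      (Q.subgroupOf (MulAction.stabilizer G a)).Normal ∧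
      (∀ g₁ g₂ : G, g₁ ∉ MulAction.stabilizer G a → g₂ ∉ MulAction.stabilizer G a →
        ∃ u ∈ Q, g₂⁻¹ * (u * g₁) ∈ MulAction.stabilizer G a) ∧
      ∀ g : G, g ∉ MulAction.stabilizer G a → ∀ u ∈ Q,
        g⁻¹ * (u * g) ∈ MulAction.stabilizer G a → u = 1 := by
  have hu := h.world.uf
  haveI := finite_points hu
  -- a power of prime order
  have hpower : ∀ x : G, x ≠ 1 → ∃ g ∈ zpowers x, (orderOf g).Prime := fun x hx => by
    obtain ⟨p, hp, hpd⟩ := Nat.exists_prime_and_dvd (orderOf_eq_one_iff.not.2 hx)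
    refine ⟨x ^ (orderOf x / p), pow_mem (mem_zpowers x) _, ?_⟩
    rw [orderOf_pow_of_dvd (Nat.div_pos (Nat.le_of_dvd (orderOf_pos x) hpd) hp.pos).ne'
      (Nat.div_dvd_of_dvd hpd), Nat.div_div_self hpd (orderOf_pos x).ne']
    exact hp
  have hfixpow : ∀ (x : G) (c : Ω), x • c = c → ∀ g ∈ zpowers x, g • c = c := fun x c hc g hg =>
    (MulAction.mem_stabilizer_iff).1 (zpowers_le.2 (show x ∈ MulAction.stabilizer G c from hc) hg)
  refine exists_regular_of_centralizers h.world hab (h.exists_move hab) ?_ ?_ ?_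
  · -- `D` is a Hall subgroup
    refine Nat.coprime_of_dvd fun r hr hrD hrn => ?_
    haveI := Fact.mk hr
    have hs : ∀ (S : Subgroup G), S ≤ MulAction.stabilizer G a → ∀ g ∈ S,
        ∀ y ∈ {y : Ω | y ≠ a}, g • y ∈ {y : Ω | y ≠ a} := fun S hS g hg y hy e =>
      hy (smul_left_cancel g (e.trans (show g • a = a from hS hg).symm))
    by_cases hm : r ∣ numInv G a
    · obtain ⟨P, hP⟩ := (h.good hm).exists_sylow_pair hab
      have h1 := card_set_modEq hu P.2
        (hs P fun g hg => (hP.ge (Or.inl rfl)) g hg)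
      have e : ({y : Ω | y ≠ a} ∩ fixSet (Ω := Ω) (P : Subgroup G)) = {b} := by
        rw [hP]
        ext y
        refine ⟨fun ⟨hy, hy'⟩ => hy'.resolve_left hy, ?_⟩
        rintro rfl
        exact ⟨hab.symm, Or.inr rfl⟩
      rw [e, show Nat.card ↥({b} : Set Ω) = 1 by simp] at h1
      exact hr.not_dvd_one ((Nat.ModEq.dvd_iff h1 dvd_rfl).1 hrn)
    · obtain ⟨g, hgo⟩ := exists_prime_orderOf_dvd_card' (G := pairStab G a b) r hrD
      have hgo' : orderOf (g : G) = r := (Subgroup.orderOf_coe g).trans hgo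
      obtain ⟨-, k, hk⟩ := h.local_power_of_noBad hab hgood g.2 (hgo'.symm ▸ hr)
        (mem_zpowers _) (fun e => absurd (hgo' ▸ e) hm)
      have hP : IsPGroup r (zpowers (g : G)) :=
        IsPGroup.of_card (n := 1) (by rw [Nat.card_zpowers, hgo', pow_one])
      have h1 := card_set_modEq hu hP
        (hs _ (zpowers_le.2 (mem_pairStab.1 g.2).1))
      have e : Nat.card ↥({y : Ω | y ≠ a} ∩ fixSet (Ω := Ω) (zpowers (g : G))) = 2 ^ k := by
        rw [← hk]
        exact Nat.card_congr (Equiv.subtypeEquivRight fun y =>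
          ⟨fun hy => ⟨hy.1, hy.2 _ (mem_zpowers _)⟩,
            fun hy => ⟨hy.1, fun z hz => hfixpow _ _ hy.2 z hz⟩⟩)
      rw [e] at h1
      have h2 : r ∣ 2 ^ k := (Nat.ModEq.dvd_iff h1 dvd_rfl).1 hrn
      have := (Nat.prime_dvd_prime_iff_eq hr Nat.prime_two).1 (hr.dvd_of_dvd_pow h2)
      subst this
      exact (odd_pairStab hu hab).not_two_dvd_nat hrD
  · intro x hx hx1 c hca hxc
    by_cases hcb : c = b
    · subst hcb
      exact ⟨1, one_mem _, Commute.one_left x, one_smul _ _⟩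
    obtain ⟨g, hgx, hg⟩ := hpower x hx1
    obtain ⟨h1, -⟩ := h.local_power_of_noBad hab hgood hx hg hgx
      fun _ => ⟨c, hca, hcb, hfixpow x c hxc g hgx⟩
    obtain ⟨s, -, hsa, hsb, hsx⟩ := h1 c hca hxc
    exact ⟨s, hsa, hsx, hsb⟩
  · intro x hx hx1
    by_cases hthree : ∃ c, c ≠ a ∧ c ≠ b ∧ x • c = c
    · obtain ⟨c, hca, hcb, hxc⟩ := hthree
      obtain ⟨g, hgx, hg⟩ := hpower x hx1
      exact (h.local_power_of_noBad hab hgood hx hg hgx
        fun _ => ⟨c, hca, hcb, hfixpow x c hxc g hgx⟩).2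
    · refine ⟨0, ?_⟩
      have e : otherFix x a = {b} := by
        ext c
        refine ⟨fun hc => ?_, ?_⟩
        · by_contra hcb
          exact hthree ⟨c, hc.1, hcb, hc.2⟩
        · rintro rfl
          exact ⟨hab.symm, (mem_pairStab.1 hx).2⟩
      rw [e, Nat.card_coe_set_eq, Set.ncard_singleton, pow_zero]

end CfsgLib.BenderWorld
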