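import Cfsg.Agent.BenderWorld.Finish.KernelLocal
import Cfsg.Agent.BenderWorld.Finish.Good
import Cfsg.Agent.Glauberman.Solvable
import Cfsg.Agent.S0205

/-!
# The regular normal complement from `invKer a`

If `stabilizer a = invKer a * pairStab a b` then `invKer a` is transitive on the other points,
`E = invKer a ⊓ stabilizer b` is a Hall subgroup of it controlling fusion, and the Brauer-Suzuki complement `Q`
is regular and normal in the stabilizer.  The supplement holds when `E ≠ ⊥` or when `stabilizer a / invKer a`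
has odd order (docs/bender_shape_finish_helper22.md, steps 1 and 2).
-/

set_option autoImplicit false
set_option linter.style.haveILetI false

namespace CfsgLib.BenderWorld

open CfsgLib.Small CfsgLib.SEmbed Subgroup

universe u v

variable {G : Type u} [Group G] [Finite G] {Ω : Type v} [MulAction G Ω]

/-- `stabilizer a = invKer a * pairStab a b`. -/
def Supplement (G : Type u) [Group G] {Ω : Type v} [MulAction G Ω] (a b : Ω) : Prop :=
  ∀ g : G, g • a = a → ∃ k ∈ invKer G a, ∃ d ∈ pairStab G a b, g = k * d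

/-- The supplement when the quotient has odd order. -/
theorem Clean.supplement_of_odd (h : Clean G Ω) {a b : Ω} (hab : a ≠ b)
    (htr : ∀ x, x ≠ a → ∃ g ∈ MulAction.stabilizer G a, g • b = x)
    (hodd : Odd ((invKer G a).subgroupOf (MulAction.stabilizer G a)).index) : Supplement G a b := by
  classical
  intro g₀ hg₀
  by_cases hne : invKer G a ⊓ MulAction.stabilizer G b ≠ ⊥
  · exact h.supplement_of_ne_bot hab hne hg₀
  have hu := h.world.uf
  set H := MulAction.stabilizer G a with hH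
  set K := (invKer G a).subgroupOf H with hK
  by_cases htop : K = ⊤
  · exact ⟨g₀, mem_subgroupOf.1 (htop ▸ mem_top (⟨g₀, hg₀⟩ : H) : (⟨g₀, hg₀⟩ : H) ∈ K),
      1, one_mem _, (mul_one g₀).symm⟩
  haveI : K.Normal := ⟨fun x hx g => mem_subgroupOf.2 (by
    simpa using conj_mem_invKer (show (g : G) • a = a from g.2) (mem_subgroupOf.1 hx))⟩
  haveI : Group.IsSolvable (H ⧸ K) := Cfsg.Agent.S0205.result (by rwa [← index_eq_card])
  obtain ⟨r, T, hr, hTn, hT1, hT⟩ := CfsgLib.Glauberman.exists_normal_pGroup (S := H ⧸ K)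
    (fun e => htop (index_eq_one.1 (by rwa [index_eq_card])))
  haveI := Fact.mk hr
  set N := T.comap (QuotientGroup.mk' K) with hN
  let R : Sylow r N := default
  -- `T` is covered by `R`
  have hcov : ∀ x ∈ N, ∃ y ∈ (R : Subgroup N), (y : H)⁻¹ * x ∈ K := by
    intro x hx
    let f : N →* T := ((QuotientGroup.mk' K).comp N.subtype).codRestrict T fun y => y.2
    have hf : Function.Surjective f := fun z => by
      obtain ⟨y, hy⟩ := QuotientGroup.mk'_surjective K (z : H ⧸ K)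
      exact ⟨⟨y, (mem_comap (f := QuotientGroup.mk' K)).2 (hy ▸ z.2)⟩, Subtype.ext hy⟩
    let S' : Sylow r T := R.mapSurjective hf
    have hS' : (S' : Subgroup T) = ⊤ := by
      haveI : Fact r.Prime := ⟨hr⟩
      exact S'.is_maximal' (Q := ⊤) (hT.to_subgroup ⊤ |>.of_equiv (MulEquiv.refl _)) le_top |>.symm
    obtain ⟨y, hy, hfy⟩ := (show f ⟨x, hx⟩ ∈ (S' : Subgroup T) from hS' ▸ mem_top _)
    exact ⟨y, hy, QuotientGroup.eq.1 (congrArg Subtype.val hfy)⟩
  set R' : Subgroup G := ((R : Subgroup N).map N.subtype).map H.subtype with hR'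
  have hR'p : IsPGroup r R' := (R.2.map _).map _
  have hR'a : a ∈ fixSet (Ω := Ω) R' := by
    rintro _ ⟨y, -, rfl⟩; exact y.2
  haveI : N.Normal := hTn.comap _
  -- an involution centralised by `R'` is centralised by `N`
  have hno : ∀ i ∈ invMap (G := G) a a, ¬ ∀ y ∈ R', Commute y i := by
    intro i hi hc
    refine hT1 (eq_bot_iff.2 fun z hz => ?_)
    obtain ⟨x, rfl⟩ := QuotientGroup.mk'_surjective K z
    rw [Subgroup.mem_bot, QuotientGroup.mk'_apply, QuotientGroup.eq_one_iff, mem_subgroupOf]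
    refine mem_invKer fun j hj => ?_
    obtain ⟨d, hd, hdi⟩ := exists_conj_fix hu hab hi hj
    have hda : d ∈ H := (mem_pairStab.1 hd).1
    set x' : H := ⟨d, hda⟩⁻¹ * x * ⟨d, hda⟩ with hx'
    have hx'N : x' ∈ N := by
      simpa [hx'] using (inferInstance : N.Normal).conj_mem x hz (⟨d, hda⟩⁻¹ : H)
    obtain ⟨y, hy, hk⟩ := hcov x' hx'N
    have h1 : Commute ((x' : H) : G) i := by
      have hy' : Commute ((y : H) : G) i := hc _ ⟨_, ⟨y, hy, rfl⟩, rfl⟩
      have hk' : Commute (((y : H) : G)⁻¹ * ((x' : H) : G)) i := commute_invKer (mem_subgroupOf.1 hk) hi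
      have := hy'.mul_left hk'
      rwa [mul_inv_cancel_left] at this
    have h2 := h1.map (MulAut.conj d).toMonoidHom
    rw [← hdi]
    simpa [hx', mul_assoc] using h2
  have hdvd : r ∣ numInv G a := by
    by_contra hndvd
    letI : MulAction R' (invMap (G := G) a a) := {
      smul := fun r i => ⟨(r : G) * i.1 * (r : G)⁻¹, conj_mem_invMap (hR'a r r.2) i.2⟩
      one_smul := fun i => Subtype.ext (by
        show ((1 : R') : G) * i.1 * ((1 : R') : G)⁻¹ = i.1
        rw [Subgroup.coe_one, one_mul, inv_one, mul_one])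
      mul_smul := fun r r' i => Subtype.ext (by
        show ((r * r' : R') : G) * i.1 * ((r * r' : R') : G)⁻¹ =
          (r : G) * ((r' : G) * i.1 * (r' : G)⁻¹) * (r : G)⁻¹
        rw [Subgroup.coe_mul]; group) }
    obtain ⟨i, hi⟩ := hR'p.nonempty_fixed_point_of_prime_not_dvd_card _ hndvd
    exact hno i.1 i.2 fun y hy => mul_inv_eq_iff_eq_mul.1 (congrArg Subtype.val (hi ⟨y, hy⟩))
  have hg := h.good hdvd
  have hR'1 : R' ≠ ⊥ := fun e => by
    obtain ⟨i, hi, hia⟩ := hu.exists_inv a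
    exact hno i ⟨hi, hia⟩ fun y hy => (mem_bot.1 (e ▸ hy)) ▸ Commute.one_left i
  obtain ⟨y, hy, hya⟩ : ∃ y ∈ fixSet (Ω := Ω) R', a ≠ y := by
    obtain ⟨y₁, y₂, h12, h1, h2⟩ := hg.exists_two_fixed hR'p
    by_cases h' : a = y₁
    · exact ⟨y₂, h2, h' ▸ h12⟩
    · exact ⟨y₁, h1, h'⟩
  have honly : ∀ z ∈ fixSet (Ω := Ω) R', z ≠ a → z = y := by
    intro z hz hza
    by_contra hzy
    obtain ⟨v, hv, hvc⟩ := hg.exists_invol_at hR'p hR'1 hR'a hy hz hya (Ne.symm hza) (Ne.symm hzy) hR'a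
    exact hno v hv hvc
  -- Frattini
  obtain ⟨c, hca, hcy⟩ := htr y hya.symm
  have hkey : ∀ x : G, x • a = a → ∃ k ∈ invKer G a, ∃ n, n • a = a ∧ n • y = y ∧ x = k * n := by
    intro x hx
    have htop' : normalizer (((R : Subgroup N).map N.subtype : Subgroup H) : Set H) ⊔ N = ⊤ :=
      Sylow.normalizer_sup_eq_top R
    obtain ⟨n, hn, m, hm, hnm⟩ := mem_sup_of_normal_right.1
      (show (⟨x, hx⟩ : H) ∈ _ from htop' ▸ mem_top (⟨x, hx⟩ : H))
    obtain ⟨z, hz, hzk⟩ := hcov m hm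
    set n' : H := n * (z : H) with hn'
    have hn'N : (n' : G) ∈ normalizer (R' : Set G) :=
      le_normalizer_map H.subtype ⟨n', mul_mem hn (le_normalizer (mem_map_of_mem N.subtype hz)), rfl⟩
    have hn'a : (n' : G) • a = a := n'.2
    refine ⟨(n' : G) * (((z : H) : G)⁻¹ * (m : G)) * (n' : G)⁻¹, conj_mem_invKer hn'a (mem_subgroupOf.1 hzk),
      n', hn'a, ?_, ?_⟩
    · refine honly _ (smul_mem_fixSet hn'N hy) fun e => hya ?_
      exact smul_left_cancel (n' : G) (hn'a.trans e.symm)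
    · have hx' : x = (n : G) * (m : G) := (congrArg Subtype.val hnm).symm
      rw [hx', hn']
      simp [mul_assoc]
  -- move `y` back to `b`
  have hca' : c • a = a := hca
  obtain ⟨k, hk, n, hna, hny, hxe⟩ := hkey (c * g₀ * c⁻¹) (by
    rw [mul_smul, mul_smul, inv_smul_eq_iff.2 hca'.symm, hg₀, hca'])
  refine ⟨c⁻¹ * k * c, ?_, c⁻¹ * n * c, mem_pairStab.2 ⟨?_, ?_⟩, ?_⟩
  · simpa using conj_mem_invKer (g := c⁻¹) (inv_smul_eq_iff.2 hca'.symm) hk
  · rw [mul_smul, mul_smul, hca', hna, inv_smul_eq_iff, hca']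
  · rw [mul_smul, mul_smul, hcy, hny, inv_smul_eq_iff, hcy]
  · calc g₀ = c⁻¹ * (c * g₀ * c⁻¹) * c := by group
      _ = _ := by rw [hxe]; group

omit [Finite G] in
theorem Supplement.exists_move {a b : Ω} (hs : Supplement G a b)
    (htr : ∀ x, x ≠ a → ∃ g ∈ MulAction.stabilizer G a, g • b = x) {x : Ω} (hx : x ≠ a) :
    ∃ k ∈ invKer G a, k • b = x := by
  obtain ⟨g, hg, hgx⟩ := htr x hx
  obtain ⟨k, hk, d, hd, rfl⟩ := hs g hg
  exact ⟨k, hk, by rw [← hgx, mul_smul, (mem_pairStab.1 hd).2]⟩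

/-- The quotient has odd order. -/
theorem Supplement.mem_of_pow_mem (hu : UniqueFix G Ω) {a b : Ω} (hab : a ≠ b) (hs : Supplement G a b) :
    ∀ n : ℕ, ∀ g : G, g • a = a → g ^ 2 ^ n ∈ invKer G a → g ∈ invKer G a := by
  intro n
  induction n with
  | zero => intro g _ hg; simpa using hg
  | succ n ih =>
    intro g hga hg
    refine ih g hga ?_
    have hxa : g ^ 2 ^ n • a = a :=
      (MulAction.mem_stabilizer_iff).1 (pow_mem (show g ∈ MulAction.stabilizer G a from hga) _)
    rw [pow_succ, pow_mul] at hg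
    obtain ⟨k, hk, d, hd, hkd⟩ := hs _ hxa
    rw [hkd] at hg ⊢
    have hda := (mem_pairStab.1 hd).1
    have hd2 : d ^ 2 ∈ invKer G a := by
      have h1 := mul_mem (inv_mem (mul_mem hk (conj_mem_invKer hda hk))) hg
      convert h1 using 1
      rw [sq, sq]; group
    obtain ⟨l, hl⟩ := exists_pow_eq_self_of_coprime (x := d) (n := 2)
      (Nat.coprime_two_left.2 ((odd_pairStab hu hab).of_dvd_nat (Subgroup.orderOf_dvd_natCard _ hd)))
    exact mul_mem hk (hl ▸ pow_mem hd2 l)

/-- The centraliser in `invKer a` is transitive on the further fixed points. -/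
theorem Clean.exists_commute_move (h : Clean G Ω) {a b : Ω} (hab : a ≠ b) (hs : Supplement G a b)
    (htr : ∀ x, x ≠ a → ∃ g ∈ MulAction.stabilizer G a, g • b = x)
    {x : G} (hxK : x ∈ invKer G a) (hxb : x • b = b) {c : Ω} (hca : c ≠ a) (hxc : x • c = c) :
    ∃ u ∈ invKer G a, Commute u x ∧ u • b = c := by
  by_cases hx1 : x = 1
  · obtain ⟨k, hk, hkc⟩ := hs.exists_move htr hca
    exact ⟨k, hk, hx1 ▸ Commute.one_right k, hkc⟩
  have hfix : ∀ p : Ω, x • p = p → p ∈ fixSet (Ω := Ω) (zpowers x) := fun p hp r hr =>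
    (MulAction.mem_stabilizer_iff).1 (zpowers_le.2 (show x ∈ MulAction.stabilizer G p from hp) hr)
  obtain ⟨hR2, horb, hcore⟩ := h.local_of_fixed hab (zpowers_ne_bot.2 hx1) (zpowers_le.2 hxK) (hfix b hxb)
    le_rfl (centralizer_le_normalizer _)
  obtain ⟨U, -, hUM, -, hU2, -, htr', -⟩ := hR2.twoClosed
  obtain ⟨u, hu', hub⟩ := htr' b (horb ▸ hfix b hxb) c (horb ▸ hfix c hxc) hab.symm hca
  obtain ⟨n, hn⟩ := hU2 u hu'
  exact ⟨u, hs.mem_of_pow_mem h.world.uf hab n u (hUM hu').2 (hcore hn).1,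
    (mem_centralizer_iff.1 (hUM hu').1 x (mem_zpowers x)).symm, hub⟩

/-- The number of further fixed points of an element of `invKer a` is prime to the order of
`invKer a ⊓ stabilizer b`. -/
theorem Clean.not_dvd_otherFix (h : Clean G Ω) {a b : Ω} (hab : a ≠ b) {p : ℕ} (hp : p.Prime)
    (hpE : p ∣ Nat.card ↥(invKer G a ⊓ MulAction.stabilizer G b))
    (hHall : ¬ p ∣ Nat.card {x : Ω // x ≠ a}) {z : G} (hz : z ∈ invKer G a) {x : Ω} (hxa : x ≠ a)
    (hzx : z • x = x) : ¬ p ∣ Nat.card (otherFix z a) := by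
  intro hdvd
  by_cases hz1 : z = 1
  · refine hHall ?_
    rwa [show Nat.card {y : Ω // y ≠ a} = Nat.card (otherFix z a) from
      Nat.card_congr (Equiv.subtypeEquivRight fun y =>
        ⟨fun hy => ⟨hy, by rw [hz1, one_smul]⟩, fun hy => hy.1⟩)]
  have hfix : ∀ p : Ω, z • p = p → p ∈ fixSet (Ω := Ω) (zpowers z) := fun p hp r hr =>
    (MulAction.mem_stabilizer_iff).1 (zpowers_le.2 (show z ∈ MulAction.stabilizer G p from hp) hr)
  obtain ⟨k, hk⟩ := h.card_fixed hxa.symm (zpowers_ne_bot.2 hz1) (zpowers_le.2 hz) (hfix x hzx)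
  have he : otherFix z a = fixSet (Ω := Ω) (zpowers z) \ {a} := Set.ext fun y =>
    ⟨fun hy => ⟨hfix y hy.2, hy.1⟩, fun hy => ⟨hy.2, hy.1 z (mem_zpowers z)⟩⟩
  rw [he, hk] at hdvd
  have h2 := (Nat.prime_dvd_prime_iff_eq hp Nat.prime_two).1 (hp.dvd_of_dvd_pow hdvd)
  subst h2
  exact (odd_pairStab h.world.uf hab).not_two_dvd_nat (hpE.trans (card_dvd_of_le fun y hy =>
    mem_pairStab.2 ⟨invKer_le_stabilizer h.world.uf a hy.1, hy.2⟩))

/-- **The regular normal subgroup.** -/
theorem Clean.exists_regular (h : Clean G Ω) {a b : Ω} (hab : a ≠ b)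
    (htr : ∀ x, x ≠ a → ∃ g ∈ MulAction.stabilizer G a, g • b = x) (hs : Supplement G a b) :
    ∃ Q : Subgroup G, Q ≤ MulAction.stabilizer G a ∧
      (∀ g : G, g • a = a → ∀ q ∈ Q, g * q * g⁻¹ ∈ Q) ∧ (∀ x, x ≠ a → ∃ q ∈ Q, q • b = x) ∧
      ∀ q ∈ Q, q • b = b → q = 1 := by
  classical
  have hu := h.world.uf
  haveI := finite_points hu
  set K := invKer G a with hKdef
  have hKa : K ≤ MulAction.stabilizer G a := invKer_le_stabilizer hu a
  haveI : Fintype K := Fintype.ofFinite K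
  set E : Subgroup K := (MulAction.stabilizer G b).subgroupOf K with hEdef
  have hcardE : Nat.card E = Nat.card ↥(K ⊓ MulAction.stabilizer G b) := by
    rw [hEdef, ← inf_subgroupOf_left, Nat.card_congr (subgroupOfEquivOfLe inf_le_left).toEquiv]
  have hEstab : MulAction.stabilizer K b = E := rfl
  have hindex : E.index = Nat.card {x : Ω // x ≠ a} := by
    rw [← hEstab, MulAction.index_stabilizer, ← Nat.card_coe_set_eq]
    refine Nat.card_congr (Equiv.subtypeEquivRight fun x => ⟨?_, fun hx => ?_⟩)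
    · rintro ⟨g, rfl⟩ e
      exact hab (MulAction.injective (g : G) ((hKa g.2).trans e.symm))
    · obtain ⟨k, hk, hkx⟩ := hs.exists_move htr hx
      exact ⟨⟨k, hk⟩, hkx⟩
  -- the Hall property
  have hHall : ∀ p : ℕ, p.Prime → p ∣ Nat.card E → ¬ p ∣ E.index := by
    intro p hp hpE hpi
    haveI := Fact.mk hp
    obtain ⟨S, -, hSE, hS, hcard⟩ := exists_maximal_le (q := p) (K := K ⊓ MulAction.stabilizer G b)
      (Q := ⊥) IsPGroup.of_bot bot_le
    rw [← hcardE] at hcard
    have hpos := hp.factorization_pos_of_dvd Nat.card_pos.ne' hpE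
    have hS1 : S ≠ ⊥ := fun e => by
      rw [e, card_bot] at hcard
      exact (Nat.one_lt_pow hpos.ne' hp.one_lt).ne hcard
    have hfull := h.sylow_invKer hab hS hS1 hSE (hcardE ▸ hcard)
    rw [hcard] at hfull
    have h1 := Nat.pow_right_injective hp.two_le hfull
    rw [← hKdef, ← E.card_mul_index, Nat.factorization_mul Nat.card_pos.ne' Subgroup.index_ne_zero_of_finite,
      Finsupp.add_apply] at h1
    have := hp.factorization_pos_of_dvd (Subgroup.index_ne_zero_of_finite (H := E)) hpi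
    omega
  have hcop : Nat.Coprime (Nat.card E) E.index := Nat.coprime_of_dvd hHall
  -- fusion
  have hfus : CfsgLib.CharactersDeep.NormalComplement.ControlsFusion E := by
    intro x hx y hy hxy
    obtain ⟨g, hg⟩ := isConj_iff.1 hxy
    have hga : (g : G) • a = a := hKa g.2
    have hxg : (x : G) • ((g : G)⁻¹ • b) = (g : G)⁻¹ • b := by
      have h1 : (y : G) • b = b := hy
      rw [← hg] at h1
      simp only [Subgroup.coe_mul, InvMemClass.coe_inv, mul_smul] at h1
      exact eq_inv_smul_iff.2 h1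
    obtain ⟨u, hu', hux, hub⟩ := h.exists_commute_move hab hs htr x.2 hx (c := (g : G)⁻¹ • b)
      (fun e => hab (by rw [inv_smul_eq_iff, hga] at e; exact e.symm)) hxg
    refine ⟨g * ⟨u, hu'⟩, ?_, ?_⟩
    · show ((g : G) * u) • b = b
      rw [mul_smul, hub, smul_inv_smul]
    · rw [← hg]
      apply Subtype.ext
      show (g : G) * u * x * ((g : G) * u)⁻¹ = g * x * (g : G)⁻¹
      rw [mul_inv_rev, mul_assoc (g : G) u, hux.eq]
      group
  -- elementary subgroups
  have helem : CfsgLib.CharactersDeep.NormalComplement.ContainsElementary E := by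
    intro X p hp hX hdvd
    haveI : Fact p.Prime := ⟨hp⟩
    have hnd : ∀ q : ℕ, q.Prime → q ∣ Nat.card E → ∀ z ∈ K, ∀ x, x ≠ a → z • x = x →
        ¬ q ∣ Nat.card (otherFix z a) := fun q hq hqE z hz x hxa hzx =>
      h.not_dvd_otherFix hab hq (hcardE ▸ hqE) (hindex ▸ hHall q hq hqE) hz hxa hzx
    -- an element of such order has a further fixed point
    have hfix : ∀ n, ∀ z ∈ K, orderOf z = n → n ∣ Nat.card E → ∃ x, x ≠ a ∧ z • x = x := by
      intro n
      induction n using Nat.strong_induction_on with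
      | _ n ih =>
        intro z hz hzn hn
        by_cases hn1 : n = 1
        · exact ⟨b, hab.symm, by rw [orderOf_eq_one_iff.1 (hzn.trans hn1), one_smul]⟩
        obtain ⟨q, hq, hqn⟩ := Nat.exists_prime_and_dvd hn1
        haveI : Fact q.Prime := ⟨hq⟩
        have hn0 : n ≠ 0 := hzn ▸ (orderOf_pos z).ne'
        have hmul : q ^ n.factorization q * (n / q ^ n.factorization q) = n :=
          Nat.ordProj_mul_ordCompl_eq_self n q
        set m := n / q ^ n.factorization q with hm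
        set e := q ^ n.factorization q with he
        have he1 : 1 < e := Nat.one_lt_pow (hq.factorization_pos_of_dvd hn0 hqn).ne' hq.one_lt
        have hm0 : m ≠ 0 := fun h => hn0 (by rw [← hmul, h, mul_zero])
        have ho : orderOf (z ^ e) = m := by
          rw [orderOf_pow' _ (by omega), hzn, Nat.gcd_eq_right (Dvd.intro m hmul), ← hmul,
            Nat.mul_div_cancel_left _ (by omega)]
        have ho' : orderOf (z ^ m) = e := by
          rw [orderOf_pow' _ hm0, hzn, Nat.gcd_eq_right (Dvd.intro_left e hmul), ← hmul,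
            Nat.mul_div_cancel _ (Nat.pos_of_ne_zero hm0)]
        obtain ⟨x, hxa, hx⟩ := ih m (lt_of_lt_of_eq (lt_mul_left
          (Nat.pos_of_ne_zero hm0) he1) hmul) (z ^ e) (pow_mem hz e) ho
          ((Dvd.intro_left e hmul).trans hn)
        obtain ⟨c, hca, hc, hcy⟩ := exists_common_fix (p := q) (P := zpowers (z ^ m)) (a := a) (z := z ^ e)
          (IsPGroup.of_card (by rw [Nat.card_zpowers, ho']))
          (zpowers_le.2 (hKa (pow_mem hz m)))
          (fun y hy => by
            obtain ⟨i, rfl⟩ := mem_zpowers_iff.1 hy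
            exact ((Commute.refl z).pow_pow m e).zpow_left i)
          (hnd q hq (hqn.trans hn) _ (pow_mem hz e) x hxa hx)
        refine ⟨c, hca, ?_⟩
        have hmem : z ∈ MulAction.stabilizer G c := by
          have hc1 : z ^ (e : ℤ) ∈ MulAction.stabilizer G c := by rw [zpow_natCast]; exact hc
          have hc2 : z ^ (m : ℤ) ∈ MulAction.stabilizer G c := by
            rw [zpow_natCast]; exact hcy _ (mem_zpowers _)
          have hco : Nat.Coprime e m := Nat.Coprime.pow_left _ (Nat.coprime_ordCompl hq hn0)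
          have := Nat.gcd_eq_gcd_ab e m
          rw [hco.gcd_eq_one] at this
          rw [← zpow_one z, show (1 : ℤ) = (e : ℤ) * Nat.gcdA e m + (m : ℤ) * Nat.gcdB e m by
            exact_mod_cast this, zpow_add, zpow_mul, zpow_mul]
          exact mul_mem (zpow_mem hc1 _) (zpow_mem hc2 _)
        exact hmem
    obtain ⟨z, hzc, hzp, k, hk⟩ := hX
    have hcard : Nat.card X = orderOf (z : K) * p ^ k := by
      rw [← hk, ← (zpowers z).card_mul_index, Nat.card_zpowers, Subgroup.orderOf_coe]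
    obtain ⟨x, hxa, hzx⟩ := hfix _ ((z : K) : G) (z : K).2 (Subgroup.orderOf_coe _)
      ((Dvd.intro _ hcard.symm).trans hdvd)
    let S : Sylow p X := default
    have key : ∃ c, c ≠ a ∧ ((z : K) : G) • c = c ∧ ∀ y ∈ (S : Subgroup X), ((y : K) : G) • c = c := by
      rcases Nat.eq_zero_or_pos k with rfl | hk0
      · refine ⟨x, hxa, hzx, fun y hy => ?_⟩
        obtain ⟨i, hi⟩ : y ∈ zpowers z := by
          rw [index_eq_one.1 (hk.trans (pow_zero p))]; trivial
        subst hi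
        exact Subgroup.zpow_mem (MulAction.stabilizer G x) hzx i
      have hpD : p ∣ Nat.card E :=
        ((dvd_pow_self p hk0.ne').trans (Dvd.intro_left _ hcard.symm)).trans hdvd
      obtain ⟨c, hca, hc, hcy⟩ := exists_common_fix (P := ((S : Subgroup X).map X.subtype).map K.subtype)
        ((S.2.map _).map _) ((map_subtype_le _).trans hKa) (z := ((z : K) : G))
        (by
          rintro _ ⟨_, ⟨y, -, rfl⟩, rfl⟩
          exact congrArg (fun w : X => ((w : K) : G)) (mem_center_iff.1 hzc y))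
        (hnd p hp hpD _ (z : K).2 x hxa hzx)
      exact ⟨c, hca, hc, fun y hy => hcy _ ⟨_, ⟨y, hy, rfl⟩, rfl⟩⟩
    obtain ⟨c, hca, hc, hcS⟩ := key
    have hall : (MulAction.stabilizer K c).subgroupOf X = ⊤ := by
      refine eq_top_of_card_eq _ (Nat.dvd_antisymm (card_subgroup_dvd_card _) ?_)
      rw [hcard, Subgroup.orderOf_coe]
      refine (hzp.pow_right k).mul_dvd_of_dvd_of_dvd
        (Subgroup.orderOf_dvd_natCard ((MulAction.stabilizer K c).subgroupOf X) (x := z) hc) ?_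
      refine dvd_trans ?_ (card_dvd_of_le (H := (S : Subgroup X)) fun y hy => hcS y hy)
      rw [S.card_eq_multiplicity]
      exact pow_dvd_pow p ((hp.pow_dvd_iff_le_factorization Nat.card_pos.ne').1 (hcard ▸ dvd_mul_left _ _))
    obtain ⟨g, hg, rfl⟩ := hs.exists_move htr hca
    refine ⟨⟨g, hg⟩⁻¹, ?_⟩
    rintro _ ⟨e, he, rfl⟩
    show (((MulAut.conj (⟨g, hg⟩⁻¹ : K)) e : K) : G) • b = b
    have h1 : (e : G) • g • b = g • b :=
      (mem_subgroupOf.1 (hall ▸ mem_top (⟨e, he⟩ : X) : (⟨e, he⟩ : X) ∈ _) :)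
    simp only [MulAut.conj_apply, inv_inv, Subgroup.coe_mul, InvMemClass.coe_inv, mul_smul, h1, inv_smul_smul]
  obtain ⟨Q, hQn, hsup, hinf⟩ :=
    CfsgLib.CharactersDeep.NormalComplement.exists_normal_complement (H := E) hcop hfus helem
  haveI := hQn
  have hC : IsComplement' Q E :=
    isComplement'_of_disjoint_and_mul_eq_univ (disjoint_iff.2 hinf) (by
      rw [← normal_mul, hsup]; rfl)
  have hQi : Q.index = Nat.card E := hC.symm.index_eq_card
  have hQc : Nat.card Q = E.index := hC.symm.card_right ▸ rfl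
  have hmem : ∀ x, x ∈ Q.map K.subtype ↔ ∃ hx : x ∈ K, (⟨x, hx⟩ : K) ∈ Q := fun x =>
    ⟨fun ⟨q, hq, e⟩ => by subst e; exact ⟨q.2, hq⟩,
      fun ⟨hx, hq⟩ => ⟨⟨x, hx⟩, hq, rfl⟩⟩
  refine ⟨Q.map K.subtype, (map_subtype_le _).trans hKa, fun g hga q hq => ?_, fun x hx => ?_,
    fun q hq hqb => ?_⟩
  · obtain ⟨hqK, hqQ⟩ := (hmem q).1 hq
    have hc : g * q * g⁻¹ ∈ K := conj_mem_invKer hga hqK
    refine (hmem _).2 ⟨hc, ?_⟩
    rw [← QuotientGroup.eq_one_iff]
    refine orderOf_eq_one_iff.1 (Nat.eq_one_of_dvd_coprimes hcop ?_ ?_)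
    · rw [← hQi, index_eq_card]
      exact orderOf_dvd_natCard _
    · rw [← hQc]
      refine (orderOf_map_dvd (QuotientGroup.mk' Q) _).trans ?_
      rw [← Subgroup.orderOf_coe, Subgroup.coe_mk, orderOf_conj_eq, ← Subgroup.orderOf_mk q hqK]
      exact Subgroup.orderOf_dvd_natCard Q hqQ
  · obtain ⟨k, hk, hkx⟩ := hs.exists_move htr hx
    obtain ⟨q, hq, e, he, hqe⟩ := mem_sup_of_normal_left.1 (hsup ▸ mem_top (⟨k, hk⟩ : K))
    refine ⟨q, ⟨q, hq, rfl⟩, ?_⟩
    rw [← hkx, show k = (q : G) * e from (congrArg Subtype.val hqe).symm, mul_smul,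
      show (e : G) • b = b from he]
  · obtain ⟨hqK, hqQ⟩ := (hmem q).1 hq
    exact congrArg Subtype.val (disjoint_def.1 hC.disjoint hqQ (show (⟨q, hqK⟩ : K) ∈ E from hqb))

/-- `exists_regular` in the shape of `exists_regular_of_fusion`. -/
theorem Clean.exists_regular_of_supplement (h : Clean G Ω) {a b : Ω} (hab : a ≠ b) (hs : Supplement G a b) :
    ∃ Q : Subgroup G, Q ≤ MulAction.stabilizer G a ∧
      (Q.subgroupOf (MulAction.stabilizer G a)).Normal ∧
      (∀ g₁ g₂ : G, g₁ ∉ MulAction.stabilizer G a → g₂ ∉ MulAction.stabilizer G a →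
        ∃ u ∈ Q, g₂⁻¹ * (u * g₁) ∈ MulAction.stabilizer G a) ∧
      ∀ g : G, g ∉ MulAction.stabilizer G a → ∀ u ∈ Q,
        g⁻¹ * (u * g) ∈ MulAction.stabilizer G a → u = 1 := by
  obtain ⟨Q, hQa, hQn, hQt, hQr⟩ := h.exists_regular hab (h.exists_move hab) hs
  refine ⟨Q, hQa, ⟨fun q hq g => hQn g g.2 q hq⟩, fun g₁ g₂ h₁ h₂ => ?_, fun g hg u hu hug => ?_⟩
  · obtain ⟨u₁, hu₁, e₁⟩ := hQt _ h₁
    obtain ⟨u₂, hu₂, e₂⟩ := hQt _ h₂
    refine ⟨u₂ * u₁⁻¹, mul_mem hu₂ (inv_mem hu₁), ?_⟩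
    show (g₂⁻¹ * (u₂ * u₁⁻¹ * g₁)) • a = a
    rw [mul_smul, mul_smul, mul_smul, ← e₁, inv_smul_smul, e₂, inv_smul_smul]
  · obtain ⟨q, hq, e⟩ := hQt _ hg
    have h1 : u • g • a = g • a := by
      have h2 : (g⁻¹ * (u * g)) • a = a := hug
      rwa [mul_smul, mul_smul, inv_smul_eq_iff] at h2
    have h3 := hQr (q⁻¹ * u * q) (mul_mem (mul_mem (inv_mem hq) hu) hq)
      (by rw [mul_smul, mul_smul, e, h1, ← e, inv_smul_smul])
    rwa [mul_eq_one_iff_eq_inv, mul_eq_left] at h3

/-- The case of a non-trivial element of the two point stabilizer centralising the involutions at `a`. -/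
theorem Clean.exists_regular_of_kernel_ne_bot (h : Clean G Ω) {a b : Ω} (hab : a ≠ b)
    (hd : ∃ d ∈ pairStab G a b, d ≠ 1 ∧ ∀ j ∈ invMap (G := G) a a, Commute d j) :
    ∃ Q : Subgroup G, Q ≤ MulAction.stabilizer G a ∧
      (Q.subgroupOf (MulAction.stabilizer G a)).Normal ∧
      (∀ g₁ g₂ : G, g₁ ∉ MulAction.stabilizer G a → g₂ ∉ MulAction.stabilizer G a →
        ∃ u ∈ Q, g₂⁻¹ * (u * g₁) ∈ MulAction.stabilizer G a) ∧
      ∀ g : G, g ∉ MulAction.stabilizer G a → ∀ u ∈ Q,
        g⁻¹ * (u * g) ∈ MulAction.stabilizer G a → u = 1 := by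
  obtain ⟨d, hdD, hd1, hdc⟩ := hd
  exact h.exists_regular_of_supplement hab fun _ => h.supplement_of_ne_bot hab fun e =>
    hd1 (mem_bot.1 (e ▸ (⟨mem_invKer hdc, (mem_pairStab.1 hdD).2⟩ :
      d ∈ invKer G a ⊓ MulAction.stabilizer G b)))

/-- The case of a quotient of odd order. -/
theorem Clean.exists_regular_of_sq (h : Clean G Ω) {a b : Ω} (hab : a ≠ b)
    (hsq : ∀ k : G, k • a = a → (∀ j ∈ invMap (G := G) a a, Commute (k * k) j) →
      ∀ j ∈ invMap (G := G) a a, Commute k j) :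
    ∃ Q : Subgroup G, Q ≤ MulAction.stabilizer G a ∧
      (Q.subgroupOf (MulAction.stabilizer G a)).Normal ∧
      (∀ g₁ g₂ : G, g₁ ∉ MulAction.stabilizer G a → g₂ ∉ MulAction.stabilizer G a →
        ∃ u ∈ Q, g₂⁻¹ * (u * g₁) ∈ MulAction.stabilizer G a) ∧
      ∀ g : G, g ∉ MulAction.stabilizer G a → ∀ u ∈ Q,
        g⁻¹ * (u * g) ∈ MulAction.stabilizer G a → u = 1 := by
  refine h.exists_regular_of_supplement hab (h.supplement_of_odd hab (h.exists_move hab) ?_)
  set H := MulAction.stabilizer G a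
  set K := (invKer G a).subgroupOf H
  haveI : K.Normal := ⟨fun x hx g => mem_subgroupOf.2 (by
    simpa using conj_mem_invKer (show (g : G) • a = a from g.2) (mem_subgroupOf.1 hx))⟩
  by_contra hodd
  rw [Nat.not_odd_iff_even, even_iff_two_dvd, index_eq_card] at hodd
  haveI : Fact (Nat.Prime 2) := ⟨Nat.prime_two⟩
  obtain ⟨z, hz⟩ := exists_prime_orderOf_dvd_card' 2 hodd
  obtain ⟨x, rfl⟩ := QuotientGroup.mk'_surjective K z
  have h2 : x * x ∈ K := by
    rw [← QuotientGroup.eq_one_iff, ← QuotientGroup.mk'_apply, map_mul]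
    exact mul_self_of_orderOf_two hz
  have h1 : x ∈ K := mem_subgroupOf.2
    (mem_invKer (hsq x x.2 fun j hj => commute_invKer (mem_subgroupOf.1 h2) hj))
  rw [QuotientGroup.mk'_apply, (QuotientGroup.eq_one_iff x).2 h1, orderOf_one] at hz
  omega

end CfsgLib.BenderWorld
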