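import Cfsg.Agent.BenderWorld.Finish.Good
import Cfsg.Agent.BenderWorld.Local
import Cfsg.Agent.BenderWorld.Shape.OfWorld
import Cfsg.Agent.BenderWorld.Shape.BadPrime
import Cfsg.Agent.BenderWorld.Shape.XOdd
import Cfsg.Agent.BenderWorld.Shape.Main
import Cfsg.Agent.BenderWorld.InvolInZ.Main
import Cfsg.Agent.BenderWorld.Shape.Kernel
import Cfsg.Agent.BenderWorld.Finish.KernelComplement

/-!
# SHAPE gives a regular normal subgroup; the assembly of route 8

With all involutions at a point commuting: if some element of `D` centralises all of them or `H`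
induces an odd group on them, the kernel of the induced group gives the regular subgroup
(`Finish/KernelComplement`); if no element of prime order is bad, the
good case applies; a bad element makes `D` the Singer normalizer, so an even induced group would be
two-transitive on the involutions, against `InvolInZ`.
-/

set_option autoImplicit false
set_option linter.style.haveILetI false

namespace CfsgLib.BenderWorld

open CfsgLib.Small CfsgLib.SEmbed

universe u v

variable {G : Type u} [Group G] [Finite G] {Ω : Type v} [MulAction G Ω]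

/-- A normal subgroup of the stabilizer of `a` regular on the other points, in coset form. -/
def Regular (G : Type u) [Group G] {Ω : Type v} [MulAction G Ω] (a : Ω) : Prop :=
  ∃ Q : Subgroup G, Q ≤ MulAction.stabilizer G a ∧
    (Q.subgroupOf (MulAction.stabilizer G a)).Normal ∧
    (∀ g₁ g₂ : G, g₁ ∉ MulAction.stabilizer G a → g₂ ∉ MulAction.stabilizer G a →
      ∃ u ∈ Q, g₂⁻¹ * (u * g₁) ∈ MulAction.stabilizer G a) ∧
    ∀ g : G, g ∉ MulAction.stabilizer G a → ∀ u ∈ Q,
      g⁻¹ * (u * g) ∈ MulAction.stabilizer G a → u = 1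

/-- **SHAPE gives the regular normal subgroup.** -/
theorem Clean.exists_regular_of_comm (h : Clean G Ω) {a b : Ω} (hab : a ≠ b)
    (hcomm : ∀ s ∈ invMap (G := G) a a, ∀ t ∈ invMap (G := G) a a, Commute s t) : Regular G a := by
  classical
  by_cases hE0 : ∃ d ∈ pairStab G a b, d ≠ 1 ∧ ∀ j ∈ invMap (G := G) a a, Commute d j
  · exact h.exists_regular_of_kernel_ne_bot hab hE0
  by_cases hgood : NoBad G a b
  · exact h.exists_regular_of_noBad hab hgood
  refine h.exists_regular_of_sq hab fun k hk hk2 => ?_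
  by_contra hkj
  push Not at hkj
  obtain ⟨j, hj, hkj⟩ := hkj
  -- a bad element and the involution it centralises
  simp only [NoBad, not_forall, not_exists, not_and] at hgood
  obtain ⟨g, hgD, hg, hgm, hbad⟩ := hgood
  obtain ⟨hga, -⟩ := mem_pairStab.1 hgD
  obtain ⟨t, ht, htg⟩ := exists_commute_invol h.world.uf hg hgm hga
  obtain ⟨S, hSt, hSD, -⟩ := Shape.exists_setup h.world h.noConfig h.core hab ht
  let x : S.D := ⟨⟨g, hga⟩, by rw [hSD]; exact hgD⟩
  have hinv : ∀ s : (MulAction.stabilizer G a), IsConj S.t s → (s : G) ∈ invMap (G := G) a a := fun s hs => by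
    obtain ⟨c, hc⟩ := isConj_iff.1 hs
    exact ⟨by rw [Subgroup.orderOf_coe, ← hc, orderOf_conj_eq]; exact S.ht, s.2⟩
  have hinH : ∀ i, i ∈ invMap (G := G) a a → ∃ s : (MulAction.stabilizer G a), (s : G) = i ∧ IsConj S.t s :=
    fun i hi => ⟨⟨i, hi.2⟩, rfl, S.oneClass _ ((Subgroup.orderOf_coe _).symm.trans hi.1)⟩
  have hcommH : ∀ u v : (MulAction.stabilizer G a), orderOf u = 2 → orderOf v = 2 → Commute u v := fun u v hu hv =>
    Subtype.ext (hcomm u ⟨by rw [Subgroup.orderOf_coe]; exact hu, u.2⟩ v
      ⟨by rw [Subgroup.orderOf_coe]; exact hv, v.2⟩).eq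
  have hfaith : ∀ d : S.D, (∀ s, IsConj S.t s → Commute (d : (MulAction.stabilizer G a)) s) → d = 1 := by
    intro d hd
    have hdD : ((d : (MulAction.stabilizer G a)) : G) ∈ pairStab G a b := by
      exact (SetLike.ext_iff.1 hSD _).1 d.2
    by_contra hd1
    refine hE0 ⟨_, hdD, fun e => hd1 (Subtype.ext (Subtype.ext e)), fun i hi => ?_⟩
    obtain ⟨s, rfl, hs⟩ := hinH i hi
    exact congrArg Subtype.val (hd s hs).eq
  have hxt : Commute (x : (MulAction.stabilizer G a)) S.t := Subtype.ext (by
    show g * (S.t : G) = (S.t : G) * g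
    rw [hSt]; exact htg.symm.eq)
  have hxbad : ∀ s, IsConj S.t s → Commute (x : (MulAction.stabilizer G a)) s → s = S.t := by
    intro s hs hxs
    by_contra hne
    exact hbad (s : G) (hinv s hs) t ht (fun e => hne (Subtype.ext (e.trans hSt.symm)))
      (hcomm _ (hinv s hs) t ht) (congrArg Subtype.val hxs.eq).symm htg
  have hxo : orderOf x = orderOf g := by
    rw [← Subgroup.orderOf_coe, ← Subgroup.orderOf_coe]
  obtain ⟨A, hAn, -, hcompl, hcard, -⟩ :=
    Shape.exists_frobenius_of_bad S hcommH hfaith x hg hxo hxt hxbad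
  haveI := hAn
  have hfix : ∀ e ∈ S.E, e ≠ 1 → ∀ s : (MulAction.stabilizer G a), IsConj S.t s → Commute ((e : S.D) : (MulAction.stabilizer G a)) s → s = S.t := by
    intro e he he1 s hs hes
    haveI := Fact.mk hg
    have hx : (⟨x, S.mem_E.2 hxt⟩ : S.E) ∈ Subgroup.zpowers (⟨e, he⟩ : S.E) := by
      rw [zpowers_eq_top_of_prime_card hcard (fun hc => he1 (congrArg Subtype.val hc))]
      trivial
    obtain ⟨n, hn⟩ := Subgroup.mem_zpowers_iff.1 hx
    refine hxbad s hs ?_
    have hn' : (x : (MulAction.stabilizer G a)) = ((e : S.D) : (MulAction.stabilizer G a)) ^ n :=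
      (congrArg (fun y : S.E => ((y : S.D) : (MulAction.stabilizer G a))) hn).symm.trans (by simp)
    rw [hn']
    exact hes.zpow_left n
  -- the even induced group gives a swap, so two-transitivity
  obtain ⟨s, rfl, hs⟩ := hinH j hj
  have hswap := S.exists_swap_of_involutory (g := ⟨k, hk⟩) (s := s) hs
    (fun e => hkj (mul_inv_eq_iff_eq_mul.1 (congrArg Subtype.val e)))
    (Subtype.ext (by
      show k * (k * (s : G) * k⁻¹) * k⁻¹ = (s : G)
      calc k * (k * (s : G) * k⁻¹) * k⁻¹ = (k * k) * (s : G) * (k * k)⁻¹ := by group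
        _ = s := mul_inv_eq_iff_eq_mul.2 (hk2 _ hj).eq))
  have h2 := S.two_transitive_of_swap A hcompl hg hcard hfix hswap
  -- the involutions of `(MulAction.stabilizer G a)` and `1`
  have hmul : ∀ {y : (MulAction.stabilizer G a)}, y * y = 1 → y ≠ 1 → orderOf y = 2 := fun hy hy1 =>
    orderOf_eq_two_iff_sq.2 ⟨hy1, hy⟩
  have hcom' : ∀ {y z : (MulAction.stabilizer G a)}, y * y = 1 → z * z = 1 → Commute y z := by
    intro y z hy hz
    by_cases hy1 : y = 1
    · subst hy1; exact Commute.one_left z
    by_cases hz1 : z = 1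
    · subst hz1; exact Commute.one_right y
    exact hcommH y z (hmul hy hy1) (hmul hz hz1)
  let U : Subgroup (MulAction.stabilizer G a) :=
    { carrier := {y | y * y = 1}
      one_mem' := one_mul 1
      mul_mem' := fun {y z} hy hz => by
        have hy' : y * y = 1 := hy
        have hz' : z * z = 1 := hz
        show y * z * (y * z) = 1
        rw [(hcom' hz' hy').mul_mul_mul_comm]
        rw [hy', hz', one_mul]
      inv_mem' := fun {y} hy => by
        have hy' : y * y = 1 := hy
        show y⁻¹ * y⁻¹ = 1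
        rw [← mul_inv_rev, hy', inv_one] }
  refine InvolInZ.no_two_transitive (U := U) ⟨fun y hy => hy, fun y hy => hy, ?_, ?_⟩
  · obtain ⟨V, hV⟩ := h.world.four
    obtain ⟨c, hc⟩ := hV.exists_point h.world.uf
    obtain ⟨m, hm⟩ := h.world.uf.transitive c a
    let f : V → U := fun r => ⟨⟨m * (r : G) * m⁻¹, by
      show (m * (r : G) * m⁻¹) • a = a
      rw [mul_smul, mul_smul, inv_smul_eq_iff.2 hm.symm, show (r : G) • c = c from hc r.2, hm]⟩,
      Subtype.ext (show m * (r : G) * m⁻¹ * (m * (r : G) * m⁻¹) = 1 by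
        calc m * (r : G) * m⁻¹ * (m * (r : G) * m⁻¹) = m * ((r : G) * r) * m⁻¹ := by group
          _ = 1 := by rw [hV.2 _ r.2]; group)⟩
    have hf : Function.Injective f := fun r r' e => by
      have e' : m * (r : G) * m⁻¹ = m * (r' : G) * m⁻¹ :=
        congrArg (fun y : U => ((y : (MulAction.stabilizer G a)) : G)) e
      exact Subtype.ext (by simpa using e')
    exact hV.1 ▸ Nat.card_le_card_of_injective f hf
  · intro u₁ hu₁ u₂ hu₂ v₁ hv₁ v₂ hv₂ hu₁1 hu₂1 hu hv₁1 hv₂1 hv
    exact h2 u₁ u₂ v₁ v₂ (S.oneClass _ (hmul hu₁ hu₁1)) (S.oneClass _ (hmul hu₂ hu₂1))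
      (S.oneClass _ (hmul hv₁ hv₁1)) (S.oneClass _ (hmul hv₂ hv₂1)) hu hv

/-- SHAPE: the involutions at a point commute. -/
theorem Clean.commute_invMap (h : Clean G Ω) {a b : Ω} (hab : a ≠ b) :
    ∀ s ∈ invMap (G := G) a a, ∀ t ∈ invMap (G := G) a a, Commute s t := by
  intro s hs t ht
  obtain ⟨S, -⟩ := Shape.exists_setup h.world h.noConfig h.core hab ht
  suffices hall : ∀ u v : MulAction.stabilizer G a, orderOf u = 2 → orderOf v = 2 → Commute u v from
    congrArg Subtype.val (hall ⟨s, hs.2⟩ ⟨t, ht.2⟩ ((Subgroup.orderOf_coe _).symm.trans hs.1)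
      ((Subgroup.orderOf_coe _).symm.trans ht.1)).eq
  by_contra hne
  push Not at hne
  exact (fun ⟨u, v, hu, hv, huv⟩ => huv (S.commute_involutions_of_kernelProperty
    (S.kernelProperty hne) u v hu hv)) hne

/-- **Route 8**: every strongly embedded subgroup of a simple group splits, given clean worlds. -/
theorem splitHyp_of_clean
    (hclean : ∀ (G : Type u) [Group G] [Finite G] (Ω : Type u) [MulAction G Ω],
      World G Ω → Clean G Ω) :
    ∀ n, SplitHyp.{u} n :=
  splitHyp_of_world fun G _ _ _ H hH _ W => by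
    have h := hclean G (G ⧸ H) W
    haveI := nontrivial_cosets hH
    obtain ⟨b, hb⟩ := exists_ne ((1 : G) : G ⧸ H)
    have hreg : Regular G ((1 : G) : G ⧸ H) :=
      h.exists_regular_of_comm hb.symm (h.commute_invMap hb.symm)
    have hstab : MulAction.stabilizer G ((1 : G) : G ⧸ H) = H := Subgroup.ext fun g =>
      smul_one_eq_iff H g
    have := split_of_regular (H := MulAction.stabilizer G ((1 : G) : G ⧸ H))
      (hstab.symm ▸ hH) hreg
    rwa [hstab] at this

end CfsgLib.BenderWorld
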