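import Cfsg.Agent.BenderWorld.Shape.WorldFacts

/-!
# The elements fixing `a` and centralising the involutions at `a`

`invKer a = C(I(a))`.  A non-trivial subgroup `Y` of it fixing a point `c ≠ a` is centralised by the
involutions at `c`, so every `M` between `C(Y)` and `N(Y)` is a local with a four group whose orbit of `a` is
`Fix Y`.  A Sylow subgroup of `invKer a ⊓ stabilizer b` is one of `invKer a`, so when this meet is non-trivial
Frattini gives `stabilizer a = invKer a * pairStab a b` (docs/bender_gap_reduction_helper72.md, step 1).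
-/

set_option autoImplicit false
set_option linter.style.haveILetI false

namespace CfsgLib.BenderWorld

open CfsgLib.Small CfsgLib.SEmbed Subgroup

variable {G : Type*} [Group G] [Finite G] {Ω : Type*} [MulAction G Ω]

/-- The centraliser of the involutions at `a`. -/
def invKer (G : Type*) [Group G] {Ω : Type*} [MulAction G Ω] (a : Ω) : Subgroup G :=
  centralizer (invMap (G := G) a a)

omit [Finite G] in
theorem commute_invKer {a : Ω} {x i : G} (hx : x ∈ invKer G a) (hi : i ∈ invMap (G := G) a a) :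
    Commute x i := (mem_centralizer_iff.1 hx i hi).symm

omit [Finite G] in
theorem mem_invKer {a : Ω} {x : G} (h : ∀ i ∈ invMap (G := G) a a, Commute x i) : x ∈ invKer G a :=
  mem_centralizer_iff.2 fun i hi => (h i hi).eq.symm

omit [Finite G] in
theorem conj_mem_invKer {a : Ω} {g x : G} (hg : g • a = a) (hx : x ∈ invKer G a) :
    g * x * g⁻¹ ∈ invKer G a := by
  refine mem_invKer fun i hi => ?_
  have h1 := (commute_invKer hx (conj_mem_invMap (g := g⁻¹) (a := a)
    (inv_mem (show g ∈ MulAction.stabilizer G a from hg)) hi)).map (MulAut.conj g).toMonoidHom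
  simpa [mul_assoc] using h1

theorem invKer_le_stabilizer (hu : UniqueFix G Ω) (a : Ω) : invKer G a ≤ MulAction.stabilizer G a :=
  fun x hx => by
    obtain ⟨i, hi, hia⟩ := hu.exists_inv a
    exact commute_fix hu hi (commute_invKer hx ⟨hi, hia⟩) hia

theorem exists_four_at (hu : UniqueFix G Ω) (hV : ∃ V : Subgroup G, IsFour V) (a : Ω) :
    ∃ V : Subgroup G, IsFour V ∧ V ≤ MulAction.stabilizer G a := by
  obtain ⟨V, hV⟩ := hV
  obtain ⟨e, he⟩ := IsFour.exists_point hu hV
  obtain ⟨g, rfl⟩ := hu.transitive e a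
  refine ⟨V.map (MulAut.conj g).toMonoidHom,
    ⟨by rw [card_map_of_injective (MulAut.conj g).injective]; exact hV.1, ?_⟩, ?_⟩
  · rintro _ ⟨v, hv, rfl⟩
    rw [← map_mul, hV.2 v hv, map_one]
  · rintro _ ⟨v, hv, rfl⟩
    show (g * v * g⁻¹) • g • e = g • e
    rw [mul_smul, mul_smul, inv_smul_smul, show v • e = e from he hv]

theorem odd_invMap (hu : UniqueFix G Ω) {a b : Ω} (hab : a ≠ b) :
    Odd (Nat.card (invMap (G := G) a a)) := by
  obtain ⟨i, hi, hia⟩ := hu.exists_inv a
  letI : MulAction (pairStab G a b) (invMap (G := G) a a) := {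
    smul := fun d j => ⟨(d : G) * j.1 * (d : G)⁻¹, conj_mem_invMap (mem_pairStab.1 d.2).1 j.2⟩
    one_smul := fun j => Subtype.ext (by
      show ((1 : pairStab G a b) : G) * j.1 * ((1 : pairStab G a b) : G)⁻¹ = j.1
      rw [Subgroup.coe_one, one_mul, inv_one, mul_one])
    mul_smul := fun d d' j => Subtype.ext (by
      show ((d * d' : pairStab G a b) : G) * j.1 * ((d * d' : pairStab G a b) : G)⁻¹ =
        (d : G) * ((d' : G) * j.1 * (d' : G)⁻¹) * (d : G)⁻¹
      rw [Subgroup.coe_mul]; group) }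
  let i₀ : invMap (G := G) a a := ⟨i, hi, hia⟩
  have horb : MulAction.orbit (pairStab G a b) i₀ = Set.univ := Set.eq_univ_of_forall fun j => by
    obtain ⟨d, hd, hdj⟩ := exists_conj_fix hu hab i₀.2 j.2
    exact ⟨⟨d, hd⟩, Subtype.ext hdj⟩
  refine (odd_pairStab hu hab).of_dvd_nat ?_
  have h1 := (MulAction.stabilizer (pairStab G a b) i₀).index_dvd_card
  rwa [MulAction.index_stabilizer, horb, Set.ncard_univ] at h1

/-- A local containing the involutions at `a` and moving `a` has a four group at `a`. -/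
theorem Clean.local_R2 (h : Clean G Ω) {a : Ω} {M : Subgroup G} (hMtop : M ≠ ⊤)
    (hinv : ∀ i ∈ invMap (G := G) a a, i ∈ M) {m : G} (hm : m ∈ M) (hma : m • a ≠ a) : IsR2 M a := by
  have hu := h.world.uf
  obtain ⟨t, ht, hta⟩ := hu.exists_inv a
  obtain ⟨V, hV, hVa⟩ := exists_four_at hu h.world.four a
  have hVM : V ≤ M := fun v hv => by
    by_cases hv1 : v = 1
    · exact hv1 ▸ one_mem M
    · exact hinv v ⟨hV.orderOf_eq_two hv hv1, hVa hv⟩
  refine (h.world.ih M hMtop a ⟨t, hinv t ⟨ht, hta⟩, ht, hta⟩ ⟨m, hm, hma⟩).resolve_left fun h1 => ?_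
  obtain ⟨o, ho, c, -, hc, hmoc⟩ := h1 t (hinv t ⟨ht, hta⟩) ht m hm
  have hO : coreIn M ≤ MulAction.stabilizer G a := by
    refine le_stabilizer_of_normal_odd hu (N := coreIn M) ?_ ?_ hV hVa hVM
    · intro y hy
      exact le_normalizer_map M.subtype ⟨⟨y, hy⟩, by rw [normalizer_eq_top]; exact mem_top _, rfl⟩
    · rw [coreIn, card_map_of_injective M.subtype_injective]
      exact CfsgLib.TwoGroups.odd_card_oddCore
  refine hma ?_
  rw [hmoc, mul_smul, commute_fix hu ht hc hta]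
  exact hO ho

/-- An element centralising the involutions at `a` and fixing `c` centralises those at `c`. -/
theorem Clean.commute_other (h : Clean G Ω) {a c : Ω} (hac : a ≠ c) {x : G} (hxK : x ∈ invKer G a)
    (hxc : x • c = c) {s : G} (hs : s ∈ invMap (G := G) c c) : Commute x s := by
  classical
  have hu := h.world.uf
  obtain ⟨t, ht, hta⟩ := hu.exists_inv a
  set E := invKer G a ⊓ MulAction.stabilizer G c with hE
  -- elements of prime power order
  have key : ∀ (p : ℕ), p.Prime → ∀ P : Subgroup G, IsPGroup p P → P ≤ E →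
      ∀ y ∈ P, ∀ s ∈ invMap (G := G) c c, Commute y s := by
    intro p hp P hP hPE y hy s hs
    haveI := Fact.mk hp
    by_cases hP1 : P = ⊥
    · rw [hP1, mem_bot] at hy
      exact hy ▸ Commute.one_left s
    obtain ⟨v, hv, hPv⟩ : ∃ v ∈ invMap (G := G) c c, ∀ r ∈ P, Commute r v := by
      by_cases hdvd : p ∣ numInv G a
      · exact ((h.good hdvd).star hac ⟨ht, hta⟩ hP
          (fun r hr => mem_pairStab.2 ⟨invKer_le_stabilizer hu a (hPE hr).1, (hPE hr).2⟩)
          (fun r hr => mem_centralizer_singleton_iff.2 (commute_invKer (hPE hr).1 ⟨ht, hta⟩).eq) hP1).2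
      · have hndvd : ¬ p ∣ Nat.card (invMap (G := G) c c) := by
          rw [card_invMap_self hu c a]; exact hdvd
        letI : MulAction P (invMap (G := G) c c) := {
          smul := fun r i => ⟨(r : G) * i.1 * (r : G)⁻¹, conj_mem_invMap (hPE r.2).2 i.2⟩
          one_smul := fun i => Subtype.ext (by
            show ((1 : P) : G) * i.1 * ((1 : P) : G)⁻¹ = i.1
            rw [Subgroup.coe_one, one_mul, inv_one, mul_one])
          mul_smul := fun r r' i => Subtype.ext (by
            show ((r * r' : P) : G) * i.1 * ((r * r' : P) : G)⁻¹ =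
              (r : G) * ((r' : G) * i.1 * (r' : G)⁻¹) * (r : G)⁻¹
            rw [Subgroup.coe_mul]; group) }
        obtain ⟨i, hi⟩ := hP.nonempty_fixed_point_of_prime_not_dvd_card _ hndvd
        exact ⟨i.1, i.2, fun r hr => mul_inv_eq_iff_eq_mul.1 (congrArg Subtype.val (hi ⟨r, hr⟩))⟩
    -- a swapper centralised by `y`
    obtain ⟨w, ⟨hw, hwt⟩, huniq⟩ := existsUnique_interchange hu hac ⟨ht, hta⟩ hv
    have hyt : Commute y t := commute_invKer (hPE hy).1 ⟨ht, hta⟩
    have hyv := hPv y hy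
    have hyw : y * w * y⁻¹ = w := by
      refine huniq _ ⟨conj_mem_invMap_pair
        (mem_pairStab.2 ⟨invKer_le_stabilizer hu a (hPE hy).1, (hPE hy).2⟩) hw, ?_⟩
      calc y * w * y⁻¹ * t * (y * w * y⁻¹)⁻¹ = y * w * (y⁻¹ * (t * y)) * w⁻¹ * y⁻¹ := by group
        _ = y * (w * t * w⁻¹) * y⁻¹ := by rw [← hyt.eq]; group
        _ = v := by rw [hwt, hyv.eq]; group
    have hs' : w⁻¹ * s * w ∈ invMap (G := G) a a := by
      refine ⟨by rw [show w⁻¹ * s * w = w⁻¹ * s * w⁻¹⁻¹ by rw [inv_inv], orderOf_conj_eq]; exact hs.1, ?_⟩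
      rw [mul_smul, mul_smul, hw.2, hs.2, inv_smul_eq_iff, hw.2]
    have h1 := (commute_invKer (hPE hy).1 hs').map (MulAut.conj w).toMonoidHom
    simp only [MulEquiv.coe_toMonoidHom, MulAut.conj_apply] at h1
    have h2 : w * y * w⁻¹ = y := by
      have h2' : y * w = w * y := mul_inv_eq_iff_eq_mul.1 hyw
      rw [← h2', mul_inv_cancel_right]
    rw [h2, show w * (w⁻¹ * s * w) * w⁻¹ = s by group] at h1
    exact h1
  -- the primary parts generate
  let C : Subgroup G := centralizer (invMap (G := G) c c)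
  suffices hall : C.subgroupOf E = ⊤ by
    have h1 : (⟨x, hxK, hxc⟩ : E) ∈ C.subgroupOf E := hall ▸ mem_top _
    exact (mem_centralizer_iff.1 h1 s hs).symm
  refine eq_top_of_card_eq _ (Nat.dvd_antisymm (card_subgroup_dvd_card _) ?_)
  refine Nat.dvd_iff_prime_pow_dvd_dvd _ _ |>.2 fun p k hp hk => ?_
  haveI := Fact.mk hp
  let P : Sylow p E := default
  have hle : (P : Subgroup E) ≤ C.subgroupOf E := fun y hy => mem_centralizer_iff.2 fun s' hs' =>
    (key p hp ((P : Subgroup E).map E.subtype) (P.2.map _) (map_subtype_le _) _ ⟨y, hy, rfl⟩ s' hs').eq.symm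
  refine dvd_trans ?_ (card_dvd_of_le hle)
  rw [P.card_eq_multiplicity]
  exact pow_dvd_pow p ((hp.pow_dvd_iff_le_factorization Nat.card_pos.ne').1 hk)

omit [Finite G] in
theorem smul_fixed_of_mem {Y : Subgroup G} {M : Subgroup G} (hMN : M ≤ normalizer (Y : Set G)) {a : Ω}
    (ha : a ∈ fixSet (Ω := Ω) Y) : MulAction.orbit M a ⊆ fixSet (Ω := Ω) Y := by
  rintro _ ⟨g, rfl⟩
  exact smul_mem_fixSet (hMN g.2) ha

/-- **The local at a subgroup of `invKer a` with a second fixed point**. -/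
theorem Clean.local_of_fixed (h : Clean G Ω) {a b : Ω} (hab : a ≠ b) {Y M : Subgroup G} (hY : Y ≠ ⊥)
    (hYK : Y ≤ invKer G a) (hYb : b ∈ fixSet (Ω := Ω) Y) (hCM : centralizer (Y : Set G) ≤ M)
    (hMN : M ≤ normalizer (Y : Set G)) :
    IsR2 M a ∧ fixSet (Ω := Ω) Y = MulAction.orbit M a ∧
      coreIn M ≤ invKer G a ⊓ MulAction.stabilizer G b := by
  have hu := h.world.uf
  haveI := h.world.simple
  have hYa : a ∈ fixSet (Ω := Ω) Y := fun y hy => invKer_le_stabilizer hu a (hYK hy)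
  have hinv : ∀ i ∈ invMap (G := G) a a, i ∈ M := fun i hi =>
    hCM (mem_centralizer_iff.2 fun y hy => (commute_invKer (hYK hy) hi).eq)
  have hMtop : M ≠ ⊤ := by
    intro htop
    haveI := normalizer_eq_top_iff.1 (top_le_iff.1 (htop ▸ hMN))
    rcases IsSimpleGroup.eq_bot_or_eq_top_of_normal Y inferInstance with h0 | h0
    · exact hY h0
    · obtain ⟨g, hg⟩ := hu.transitive b a
      exact hab (hg.symm.trans (hYb g (h0 ▸ mem_top g)))
  obtain ⟨t, ht, hta⟩ := hu.exists_inv a
  have hmove : ∀ c ∈ fixSet (Ω := Ω) Y, c ≠ a → ∃ m ∈ M, m • a = c := by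
    intro c hc hca
    obtain ⟨v, hv, hvc⟩ := hu.exists_inv c
    have hvM : v ∈ M := hCM (mem_centralizer_iff.2 fun y hy =>
      (h.commute_other hca.symm (hYK hy) (hc y hy) ⟨hv, hvc⟩).eq)
    obtain ⟨m, hm, hms⟩ := exists_conj_in hu (hinv t ⟨ht, hta⟩) hvM ht hv hta hvc hca.symm
    exact ⟨m, hm, hu.unique v hv _ _ (by rw [← hms, mul_smul, mul_smul, inv_smul_smul, hta]) hvc⟩
  obtain ⟨m, hm, hmb⟩ := hmove b hYb hab.symm
  have hR2 := h.local_R2 hMtop hinv hm (fun e => hab (e.symm.trans hmb))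
  refine ⟨hR2, Set.Subset.antisymm (fun c hc => ?_) (smul_fixed_of_mem hMN hYa), fun o ho => ⟨?_, ?_⟩⟩
  · by_cases hca : c = a
    · rw [hca]; exact MulAction.mem_orbit_self a
    · obtain ⟨g, hg, hgc⟩ := hmove c hc hca
      exact ⟨⟨g, hg⟩, hgc⟩
  · exact mem_invKer fun i hi => h.core M hMtop a hR2 i (hinv i hi) hi o ho
  · show o • b = b
    rw [← hmb]
    exact hR2.core_fix o ho m hm

/-- The number of further fixed points is a power of two. -/
theorem Clean.card_fixed (h : Clean G Ω) {a b : Ω} (hab : a ≠ b) {Y : Subgroup G} (hY : Y ≠ ⊥)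
    (hYK : Y ≤ invKer G a) (hYb : b ∈ fixSet (Ω := Ω) Y) :
    ∃ k : ℕ, Nat.card ↥(fixSet (Ω := Ω) Y \ {a} : Set Ω) = 2 ^ k := by
  haveI := finite_points h.world.uf
  obtain ⟨hR2, horb, -⟩ := h.local_of_fixed hab hY hYK hYb (centralizer_le_normalizer _) le_rfl
  obtain ⟨k, -, hk⟩ := hR2.degree
  refine ⟨k, ?_⟩
  have ha : a ∈ fixSet (Ω := Ω) Y := horb ▸ MulAction.mem_orbit_self a
  rw [Nat.card_coe_set_eq, Set.ncard_sdiff_singleton_of_mem ha, horb, ← Nat.card_coe_set_eq, hk,
    Nat.add_sub_cancel]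

/-- A Sylow subgroup of `invKer a ⊓ stabilizer b` is one of `invKer a`. -/
theorem Clean.sylow_invKer (h : Clean G Ω) {a b : Ω} (hab : a ≠ b) {s : ℕ} [hs : Fact s.Prime]
    {S : Subgroup G} (hS : IsPGroup s S) (hS1 : S ≠ ⊥) (hSE : S ≤ invKer G a ⊓ MulAction.stabilizer G b)
    (hcard : Nat.card S = s ^ (Nat.card ↥(invKer G a ⊓ MulAction.stabilizer G b)).factorization s) :
    Nat.card S = s ^ (Nat.card (invKer G a)).factorization s := by
  have hu := h.world.uf
  haveI := finite_points hu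
  have hSK : S ≤ invKer G a := hSE.trans inf_le_left
  have hSb : b ∈ fixSet (Ω := Ω) S := fun r hr => (hSE hr).2
  have hs2 : s ≠ 2 := by
    intro e
    haveI : Nontrivial S := S.nontrivial_iff_ne_bot.2 hS1
    obtain ⟨n, hn⟩ := IsPGroup.iff_card.1 hS
    have h2 : Nat.card S ∣ Nat.card (pairStab G a b) := card_dvd_of_le fun r hr =>
      mem_pairStab.2 ⟨invKer_le_stabilizer hu a (hSK hr), (hSE hr).2⟩
    rw [hn, e] at h2
    rcases n with _ | n
    · exact (Finite.one_lt_card (α := S)).ne' (hn.trans (pow_zero s))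
    · exact (odd_pairStab hu hab).not_two_dvd_nat ((dvd_pow_self 2 n.succ_ne_zero).trans h2)
  refine card_eq_of_maximal hSK hS fun S₁ hS₁ hS₁K hle => ?_
  by_contra hne
  obtain ⟨g, hgS₁, hgN, hgS⟩ := exists_normalizer_not_mem hS₁ hle (Ne.symm hne)
  obtain ⟨hR2, horb, hcore⟩ := h.local_of_fixed hab hS1 hSK hSb (centralizer_le_normalizer _) le_rfl
  set R := S ⊔ zpowers g with hR
  have hRS₁ : R ≤ S₁ := sup_le hle (zpowers_le.2 hgS₁)
  have hRN : R ≤ normalizer (S : Set G) := sup_le le_normalizer (zpowers_le.2 hgN)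
  have hRK : R ≤ invKer G a := hRS₁.trans hS₁K
  obtain ⟨k, hk⟩ := h.card_fixed hab hS1 hSK hSb
  letI : MulAction R ↥(fixSet (Ω := Ω) S \ {a} : Set Ω) := {
    smul := fun r z => ⟨(r : G) • z.1, smul_mem_fixSet (hRN r.2) z.2.1, fun e =>
      z.2.2 (smul_left_cancel (r : G) (e.trans (invKer_le_stabilizer hu a (hRK r.2)).symm))⟩
    one_smul := fun z => Subtype.ext (one_smul G z.1)
    mul_smul := fun r r' z => Subtype.ext (mul_smul (r : G) (r' : G) z.1) }
  obtain ⟨⟨c, hcS, hca⟩, hc⟩ := (hS₁.to_le hRS₁).nonempty_fixed_point_of_prime_not_dvd_card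
    ↥(fixSet (Ω := Ω) S \ {a} : Set Ω) (by
      rw [hk]
      exact fun hd => hs2 ((Nat.prime_dvd_prime_iff_eq hs.out Nat.prime_two).1 (hs.out.dvd_of_dvd_pow hd)))
  obtain ⟨U, -, hUM, -, -, -, htr, -⟩ := hR2.twoClosed
  obtain ⟨u, hu', hub⟩ := htr b (horb ▸ hSb) c (horb ▸ hcS) hab.symm hca
  have hua : u • a = a := (hUM hu').2
  have huN : u ∈ normalizer (S : Set G) := (hUM hu').1
  -- `u⁻¹ R u` lies in the meet
  set R' := R.map (MulAut.conj u⁻¹).toMonoidHom with hR'
  have hR'E : R' ≤ invKer G a ⊓ MulAction.stabilizer G b := by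
    rintro _ ⟨r, hr, rfl⟩
    refine ⟨conj_mem_invKer (inv_smul_eq_iff.2 hua.symm) (hRK hr), ?_⟩
    show (u⁻¹ * r * u⁻¹⁻¹) • b = b
    rw [inv_inv, mul_smul, mul_smul, hub, show r • c = c from congrArg Subtype.val (hc ⟨r, hr⟩),
      inv_smul_eq_iff, hub]
  have hSR' : S ≤ R' := fun r hr => ⟨u * r * u⁻¹, mem_sup_left ((mem_normalizer_iff.1 huN r).1 hr),
    by simp [mul_assoc]⟩
  have h1 : R' = S := eq_of_card_eq ((hS₁.to_le hRS₁).map _) hR'E hSR' hcard
  have h2 : u⁻¹ * g * u⁻¹⁻¹ ∈ S := h1 ▸ ⟨g, mem_sup_right (mem_zpowers g), rfl⟩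
  refine hgS ?_
  have h3 := (mem_normalizer_iff.1 huN _).1 h2
  simpa [mul_assoc] using h3

/-- **`stabilizer a = invKer a * pairStab a b`** when their meet is non-trivial. -/
theorem Clean.supplement_of_ne_bot (h : Clean G Ω) {a b : Ω} (hab : a ≠ b)
    (hne : invKer G a ⊓ MulAction.stabilizer G b ≠ ⊥) {g : G} (hg : g • a = a) :
    ∃ k ∈ invKer G a, ∃ d ∈ pairStab G a b, g = k * d := by
  classical
  have hu := h.world.uf
  set E := invKer G a ⊓ MulAction.stabilizer G b
  obtain ⟨p, hp, hpE⟩ := Nat.exists_prime_and_dvd (n := Nat.card E)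
    (fun e => hne (eq_bot_of_card_eq E e))
  haveI := Fact.mk hp
  obtain ⟨S, -, hSE, hS, hcard⟩ := exists_maximal_le (q := p) (K := E) (Q := ⊥)
    IsPGroup.of_bot bot_le
  have hS1 : S ≠ ⊥ := fun e => by
    rw [e, card_bot] at hcard
    exact (Nat.one_lt_pow (hp.factorization_pos_of_dvd Nat.card_pos.ne' hpE).ne' hp.one_lt).ne hcard
  have hSK : S ≤ invKer G a := hSE.trans inf_le_left
  have hK := h.sylow_invKer hab hS hS1 hSE hcard
  -- Frattini
  have hfr : ∀ g : G, g • a = a → ∃ k ∈ invKer G a, ∃ n, n • a = a ∧ n ∈ normalizer (S : Set G) ∧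
      g = k * n := by
    intro g hg
    have hga : g ∈ MulAction.stabilizer G a := hg
    obtain ⟨k, hk, hkS⟩ := exists_conj_of_card (R := S.map (MulAut.conj g).toMonoidHom) (R' := S)
      (K := invKer G a) (hS.map _) hS
      (by rintro _ ⟨r, hr, rfl⟩; exact conj_mem_invKer hg (hSK hr)) hSK
      (by rw [card_map_of_injective (MulAut.conj g).injective]; exact hK) hK
    refine ⟨k⁻¹, inv_mem hk, k * g, ?_, ?_, by group⟩
    · rw [mul_smul, hg]; exact invKer_le_stabilizer hu a hk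
    · rw [mem_normalizer_iff_map_conj_eq, map_mul]
      conv_rhs => rw [← hkS, map_map]
      rfl
  have hSb : b ∈ fixSet (Ω := Ω) S := fun r hr => (hSE hr).2
  obtain ⟨hR2, horb, hcore⟩ := h.local_of_fixed hab hS1 hSK hSb (centralizer_le_normalizer _) le_rfl
  obtain ⟨U, hOU, hUM, hUn, hU2, -, htr, -⟩ := hR2.twoClosed
  have hUa : ∀ u ∈ U, u • a = a := fun u hu' => (hUM hu').2
  -- the two-closed subgroup fixes an involution
  let T : Sylow 2 U := default
  letI : MulAction ((T : Subgroup U).map U.subtype) (invMap (G := G) a a) := {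
    smul := fun u i => ⟨(u : G) * i.1 * (u : G)⁻¹,
      conj_mem_invMap (hUa _ (map_subtype_le _ u.2)) i.2⟩
    one_smul := fun i => Subtype.ext (by
      show ((1 : (T : Subgroup U).map U.subtype) : G) * i.1 * _ = i.1
      rw [Subgroup.coe_one, one_mul, inv_one, mul_one])
    mul_smul := fun u u' i => Subtype.ext (by
      show ((u * u' : (T : Subgroup U).map U.subtype) : G) * i.1 *
          ((u * u' : (T : Subgroup U).map U.subtype) : G)⁻¹ =
        (u : G) * ((u' : G) * i.1 * (u' : G)⁻¹) * (u : G)⁻¹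
      rw [Subgroup.coe_mul]; group) }
  haveI : Fact (Nat.Prime 2) := ⟨Nat.prime_two⟩
  obtain ⟨⟨t, ht⟩, hfix⟩ := (T.2.map U.subtype).nonempty_fixed_point_of_prime_not_dvd_card
    (invMap (G := G) a a) (odd_invMap hu hab).not_two_dvd_nat
  have hUt : ∀ u ∈ U, Commute u t := by
    let C : Subgroup U := (centralizer ({t} : Set G)).subgroupOf U
    suffices hC : C = ⊤ by
      intro u hu'
      exact mem_centralizer_singleton_iff.1
        (mem_subgroupOf.1 (hC ▸ mem_top (⟨u, hu'⟩ : U) : (⟨u, hu'⟩ : U) ∈ C))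
    refine eq_top_of_card_eq _ (Nat.dvd_antisymm (card_subgroup_dvd_card _) ?_)
    refine Nat.dvd_iff_prime_pow_dvd_dvd _ _ |>.2 fun q k hq hk => ?_
    haveI := Fact.mk hq
    let Q : Sylow q U := if e : q = 2 then e ▸ T else default
    have hle : (Q : Subgroup U) ≤ C := by
      intro u hu'
      rw [mem_subgroupOf, mem_centralizer_singleton_iff]
      by_cases e : q = 2
      · subst e
        have hQT : Q = T := by simp only [Q]; rw [dif_pos trivial]
        exact mul_inv_eq_iff_eq_mul.1 (congrArg Subtype.val (hfix ⟨u, ⟨u, hQT ▸ hu', rfl⟩⟩))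
      · -- elements of odd order lie in the core
        obtain ⟨n, hn⟩ := hU2 u u.2
        obtain ⟨i, hi⟩ := Q.2 ⟨u, hu'⟩
        have ho : orderOf (u : G) ∣ q ^ i := orderOf_dvd_of_pow_eq_one (by
          have h1 := congrArg (fun y : (Q : Subgroup U) => ((y : U) : G)) hi
          simpa using h1)
        obtain ⟨l, hl⟩ := exists_pow_eq_self_of_coprime (x := (u : G)) (n := 2 ^ n)
          ((Nat.coprime_primes Nat.prime_two hq |>.2 (Ne.symm e)).pow n i |>.coprime_dvd_right ho)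
        exact (commute_invKer (hcore (hl ▸ pow_mem hn l)).1 ht).eq
    refine dvd_trans ?_ (card_dvd_of_le hle)
    rw [Q.card_eq_multiplicity]
    exact pow_dvd_pow q ((hq.pow_dvd_iff_le_factorization Nat.card_pos.ne').1 hk)
  -- hence every involution at `a`
  have hUK : U ≤ invKer G a := fun u hu' => mem_invKer fun i hi => by
    obtain ⟨d, hd, hdt⟩ := exists_conj_fix hu hab ht hi
    obtain ⟨k, hk, n, hna, hnN, rfl⟩ := hfr d (mem_pairStab.1 hd).1
    have hn : n * t * n⁻¹ ∈ invMap (G := G) a a := conj_mem_invMap hna ht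
    have hi' : i = n * t * n⁻¹ := by
      rw [← hdt]
      calc k * n * t * (k * n)⁻¹ = k * (n * t * n⁻¹) * k⁻¹ := by group
        _ = _ := by rw [(commute_invKer hk hn).eq]; group
    have h1 : n⁻¹ * u * n ∈ U := by
      simpa using hUn n⁻¹ ⟨(normalizer (S : Set G)).inv_mem hnN, inv_smul_eq_iff.2 hna.symm⟩ u hu'
    have h2 := (hUt _ h1).map (MulAut.conj n).toMonoidHom
    rw [hi']
    simpa [mul_assoc] using h2
  obtain ⟨k, hk, n, hna, hnN, rfl⟩ := hfr g hg
  obtain ⟨u, hu', hub⟩ := htr b (horb ▸ hSb) (n • b) (horb ▸ smul_mem_fixSet hnN hSb) hab.symm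
    (fun e => hab (smul_left_cancel n (hna.trans e.symm)))
  refine ⟨k * u, mul_mem hk (hUK hu'), u⁻¹ * n, mem_pairStab.2 ⟨?_, ?_⟩, by group⟩
  · rw [mul_smul, hna, inv_smul_eq_iff, hUa u hu']
  · rw [mul_smul, inv_smul_eq_iff, hub]

end CfsgLib.BenderWorld
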