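import Cfsg.Agent.BenderWorld.Shape.WorldFacts

/-!
# The centraliser of a subgroup of a two point stabiliser with a four group at `a`

If `C(Y)` contains a four group at `a` and, for every further point fixed by `Y`, a swapper, then it
is a local with a four group whose orbit is the fixed point set of `Y`: so the number of those points
is `2 ^ k + 1` and two-elements of `C(Y)` fixing `a` are transitive on the others.
-/

set_option autoImplicit false
set_option linter.style.haveILetI false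

namespace CfsgLib.BenderWorld

open CfsgLib.SEmbed Subgroup

variable {G : Type*} [Group G] [Finite G] {Ω : Type*} [MulAction G Ω]

/-- `C(Y)` is R2 with orbit the fixed point set of `Y`. -/
theorem World.local_fix (h : World G Ω) {Y : Subgroup G} (hY : Y ≠ ⊥) {a b : Ω} (hab : a ≠ b)
    (hYab : Y ≤ pairStab G a b) {V : Subgroup G} (hV : IsFour V) (hVa : ∀ v ∈ V, v • a = a)
    (hVY : V ≤ centralizer (Y : Set G))
    (hsw : ∀ c ∈ fixSet (Ω := Ω) Y, c ≠ a → ∃ w ∈ invMap (G := G) a c, ∀ y ∈ Y, Commute y w) :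
    (∀ c ∈ fixSet (Ω := Ω) Y, c ≠ a → ∃ s : G, (∃ i : ℕ, s ^ 2 ^ i = 1) ∧ s • a = a ∧ s • b = c ∧
        ∀ y ∈ Y, Commute s y) ∧
      ∃ k : ℕ, 2 ≤ k ∧ Nat.card (fixSet (Ω := Ω) Y) = 2 ^ k + 1 := by
  have hu := h.uf
  set M := centralizer (Y : Set G) with hM
  have ha : a ∈ fixSet (Ω := Ω) Y := fun y hy => (mem_pairStab.1 (hYab hy)).1
  have hb : b ∈ fixSet (Ω := Ω) Y := fun y hy => (mem_pairStab.1 (hYab hy)).2
  have hmemM : ∀ {g : G}, (∀ y ∈ Y, Commute y g) → g ∈ M := fun hg =>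
    mem_centralizer_iff.2 fun y hy => (hg y hy).eq
  obtain ⟨w, hw, hwY⟩ := hsw b hb hab.symm
  have hwa : w • a ≠ a := fun e => hab (e.symm.trans hw.2)
  obtain ⟨t, htV, ht1⟩ : ∃ t ∈ V, t ≠ 1 := V.bot_or_exists_ne_one.resolve_left fun e => by
    have h1 := hV.1
    rw [e, card_bot] at h1
    omega
  have hto : orderOf t = 2 := hV.orderOf_eq_two htV ht1
  have hMtop : M ≠ ⊤ := fun htop => by
    haveI := h.simple
    haveI : Y.Normal := ⟨fun y hy k => by
      have h1 : y * k = k * y :=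
        mem_centralizer_iff.1 (show k ∈ M from htop ▸ mem_top k) y hy
      rwa [← h1, mul_inv_cancel_right]⟩
    rcases IsSimpleGroup.eq_bot_or_eq_top_of_normal Y inferInstance with h0 | h0
    · exact hY h0
    · have h2 := Subgroup.orderOf_dvd_natCard _ (show t ∈ Y from h0 ▸ mem_top t)
      rw [hto] at h2
      exact (Odd.of_dvd_nat (odd_pairStab hu hab) (card_dvd_of_le hYab)).not_two_dvd_nat h2
  have hnR1 : ¬ IsR1 M := fun h1 => by
    obtain ⟨o, ho, c, -, hc, hwoc⟩ := h1 t (hVY htV) hto w (hmemM hwY)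
    have hO : coreIn M ≤ MulAction.stabilizer G a := by
      refine le_stabilizer_of_normal_odd hu (N := coreIn M) ?_ ?_ hV hVa hVY
      · intro y hy
        exact le_normalizer_map M.subtype ⟨⟨y, hy⟩, by rw [normalizer_eq_top]; exact mem_top _, rfl⟩
      · rw [coreIn, card_map_of_injective M.subtype_injective]
        exact CfsgLib.TwoGroups.odd_card_oddCore
    refine hwa ?_
    rw [hwoc, mul_smul, commute_fix hu hto hc (hVa t htV)]
    exact hO ho
  have hM2 : IsR2 M a := (h.ih M hMtop a ⟨t, hVY htV, hto, hVa t htV⟩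
    ⟨w, hmemM hwY, hwa⟩).resolve_left hnR1
  -- the orbit is the fixed point set
  have horb : MulAction.orbit M a = fixSet (Ω := Ω) Y := by
    refine Set.Subset.antisymm ?_ fun c hc => ?_
    · rintro _ ⟨⟨g, hg⟩, rfl⟩ y hy
      show y • g • a = g • a
      rw [smul_smul, mem_centralizer_iff.1 hg y hy, mul_smul, ha y hy]
    · by_cases hca : c = a
      · rw [hca]; exact MulAction.mem_orbit_self a
      · obtain ⟨v, hv, hvY⟩ := hsw c hc hca
        exact ⟨⟨v, hmemM hvY⟩, hv.2⟩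
  refine ⟨fun c hc hca => ?_, horb ▸ hM2.degree⟩
  obtain ⟨U, -, hUM, -, hU2, -, hUtr, -⟩ := hM2.twoClosed
  obtain ⟨u, huU, hub⟩ := hUtr b (horb ▸ hb) c (horb ▸ hc) hab.symm hca
  by_cases hbc : b = c
  · exact ⟨1, ⟨0, one_pow _⟩, one_smul _ _, by rw [one_smul, hbc], fun y _ => Commute.one_left y⟩
  obtain ⟨n, hn⟩ := hU2 u huU
  have hOb : ∀ o ∈ coreIn M, o • b = b := fun o ho => by
    rw [← hw.2]; exact hM2.core_fix o ho w (hmemM hwY)
  -- the two-part of `u`
  obtain ⟨i, r, hr, hir⟩ :=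
    Nat.exists_eq_pow_mul_and_not_dvd (orderOf_pos u).ne' 2 (by norm_num)
  obtain ⟨j, hj⟩ : ∃ j : ℕ, r * j ≡ 1 [MOD 2 ^ n] := by
    have hcop : r.Coprime (2 ^ n) :=
      (((Nat.Prime.coprime_iff_not_dvd Nat.prime_two).2 hr).symm).pow_right n
    obtain ⟨y, hy0, hy1⟩ := Nat.chineseRemainder hcop 0 1
    obtain ⟨j, rfl⟩ := Nat.modEq_zero_iff_dvd.1 hy0
    exact ⟨j, hy1⟩
  have hfixn : ∀ k : ℕ, u ^ (2 ^ n * k) • b = b := fun k => by
    rw [pow_mul]; exact hOb _ (pow_mem hn k)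
  refine ⟨u ^ (r * j), ⟨i, ?_⟩, ?_, ?_, fun y hy => ?_⟩
  · rw [← pow_mul, show r * j * 2 ^ i = orderOf u * j by rw [hir]; ring, pow_mul,
      pow_orderOf_eq_one, one_pow]
  · exact (MulAction.mem_stabilizer_iff).1
      (pow_mem (show u ∈ MulAction.stabilizer G a from (hUM huU).2) _)
  · rw [← Nat.mod_add_div (r * j) (2 ^ n), pow_add, mul_smul, hfixn]
    rcases Nat.eq_zero_or_pos n with hn0 | hn0
    · subst hn0
      exact absurd ((hOb u (by simpa using hn)).symm.trans hub) hbc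
    · rw [show r * j % 2 ^ n = 1 % 2 ^ n from hj, Nat.one_mod_eq_one.2 (by
        have := Nat.one_lt_pow hn0.ne' (show 1 < 2 by norm_num); omega), pow_one, hub]
  · exact ((mem_centralizer_iff.1 (pow_mem (hUM huU).1 (r * j)) y hy).symm : _)

/-- `World.local_fix` in a clean world. -/
theorem Clean.local_fix (h : Clean G Ω) {Y : Subgroup G} (hY : Y ≠ ⊥) {a b : Ω} (hab : a ≠ b)
    (hYab : Y ≤ pairStab G a b) {V : Subgroup G} (hV : IsFour V) (hVa : ∀ v ∈ V, v • a = a)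
    (hVY : V ≤ centralizer (Y : Set G))
    (hsw : ∀ c ∈ fixSet (Ω := Ω) Y, c ≠ a → ∃ w ∈ invMap (G := G) a c, ∀ y ∈ Y, Commute y w) :
    (∀ c ∈ fixSet (Ω := Ω) Y, c ≠ a → ∃ s : G, (∃ i : ℕ, s ^ 2 ^ i = 1) ∧ s • a = a ∧ s • b = c ∧
        ∀ y ∈ Y, Commute s y) ∧
      ∃ k : ℕ, 2 ≤ k ∧ Nat.card (fixSet (Ω := Ω) Y) = 2 ^ k + 1 :=
  h.world.local_fix hY hab hYab hV hVa hVY hsw

end CfsgLib.BenderWorld
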